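import Cfsg.Agent.Lib.Chevalley.Aut.OutCount
import Mathlib.GroupTheory.Commutator.Basic

/-!
The structure of the outer automorphism group of a Chevalley group over a finite field.
-/

set_option autoImplicit false

open scoped commutatorElement

namespace Cfsg.Agent.Chevalley.AutThm

open Cfsg.Lie Cfsg.Agent.Chevalley.Table Cfsg.Agent.Chevalley.Cert Cfsg.Agent.Chevalley.TorusCard

variable {D : ChevalleyDatum} {T : Tab} {N : List (List ℤ)} {F : Type*} [Field F]
variable (S : Setup D T N)

/-- The quotient map to `Out`. -/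
abbrev toOut (D : ChevalleyDatum) (F : Type*) [Field F] :
    MulAut (D.group F) →* Cfsg.Out (D.group F) :=
  QuotientGroup.mk' (Cfsg.Inn (D.group F))

/-- The identity permutation is realised. -/
theorem hasGraph_one : HasGraph S.cert F (1 : Equiv.Perm (Fin D.rank)) := by
  refine hasGraph_refl S.cert rfl ?_
  rw [piL]
  conv_rhs => rw [← List.map_id (List.range D.rank)]
  refine List.map_congr_left fun i hi => ?_
  rw [piN, dif_pos (List.mem_range.1 hi)]
  rfl

theorem gAut_one : gAut (S := S) (F := F) ⟨1, hasGraph_one S⟩ = 1 := aut_ext S.cert fun i t => by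
  have h := gAut_spec (S := S) (F := F) ⟨1, hasGraph_one S⟩ i t
  simp only [Equiv.Perm.coe_one, id_eq, graphExp_self, pow_one] at h
  exact ⟨h.1.trans rfl, h.2.trans rfl⟩

theorem field_conj_diag (σ : F ≃+* F) (c : Fin D.rank → Fˣ) :
    ∃ c' : Fin D.rank → Fˣ, fHom S.cert F σ * dHom S F c = dHom S F c' * fHom S.cert F σ := by
  refine ⟨fun i => Units.map σ.toRingHom.toMonoidHom (c i), aut_ext S.cert fun i t => ?_⟩
  simp only [MulAut.mul_apply, fHom_apply]
  refine ⟨?_, ?_⟩
  · rw [show dHom S F c (gx S.cert (D.simple i) t) = _ from (dAut_spec S c i t).1, fHom_apply,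
      show dHom S F _ (gx S.cert (D.simple i) (σ t)) = _ from (dAut_spec S _ i (σ t)).1, map_mul]
    rfl
  · rw [show dHom S F c (gx S.cert (D.neg (D.simple i)) t) = _ from (dAut_spec S c i t).2, fHom_apply,
      show dHom S F _ (gx S.cert (D.neg (D.simple i)) (σ t)) = _ from (dAut_spec S _ i (σ t)).2,
      map_mul, ← map_inv]
    rfl

theorem graph_conj_diag (π : Gam S F) (c : Fin D.rank → Fˣ) :
    ∃ c' : Fin D.rank → Fˣ, gAut π * dHom S F c = dHom S F c' * gAut π := by
  refine ⟨fun j => c (π.1⁻¹ j) ^ D.graphExp (ringChar F) (π.1⁻¹ j) j, aut_ext S.cert fun i t => ?_⟩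
  simp only [MulAut.mul_apply]
  refine ⟨?_, ?_⟩
  · rw [show dHom S F c (gx S.cert (D.simple i) t) = _ from (dAut_spec S c i t).1, (gAut_spec π i t).1,
      (gAut_spec π i _).1, show dHom S F _ (gx S.cert (D.simple (π.1 i)) _) = _ from
        (dAut_spec S _ (π.1 i) _).1, mul_pow]
    simp only [Equiv.Perm.inv_def, Equiv.symm_apply_apply, Units.val_pow_eq_pow_val]
  · rw [show dHom S F c (gx S.cert (D.neg (D.simple i)) t) = _ from (dAut_spec S c i t).2,
      (gAut_spec π i t).2, (gAut_spec π i _).2,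
      show dHom S F _ (gx S.cert (D.neg (D.simple (π.1 i))) _) = _ from
        (dAut_spec S _ (π.1 i) _).2, mul_pow]
    simp only [Equiv.Perm.inv_def, Equiv.symm_apply_apply, Units.val_pow_eq_pow_val, ← inv_pow]

theorem graph_comm_field (π : Gam S F) (σ : F ≃+* F) :
    gAut π * fHom S.cert F σ = fHom S.cert F σ * gAut π := aut_ext S.cert fun i t => by
  simp only [MulAut.mul_apply, fHom_apply, (gAut_spec π i _).1, (gAut_spec π i _).2, map_pow]
  exact ⟨trivial, trivial⟩

/-- The image of the diagonal automorphisms. -/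
noncomputable def dBar (F : Type*) [Field F] : Subgroup (Cfsg.Out (D.group F)) :=
  ((toOut D F).comp (dHom S F)).range

/-- The image of the field automorphisms. -/
noncomputable def fBar (F : Type*) [Field F] : Subgroup (Cfsg.Out (D.group F)) :=
  ((toOut D F).comp (fHom S.cert F)).range

theorem exists_word [Finite F] (y : Cfsg.Out (D.group F)) :
    ∃ (c : Fin D.rank → Fˣ) (π : Gam S F) (σ : F ≃+* F),
      y = toOut D F (dHom S F c) * toOut D F (gAut π) * toOut D F (fHom S.cert F σ) := by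
  obtain ⟨⟨c, π, σ⟩, rfl⟩ := psi_surjective S y
  exact ⟨c, π, σ, by simp [psi, toOut]⟩

theorem dBar_normal [Finite F] : (dBar S F).Normal := by
  refine ⟨?_⟩
  rintro _ ⟨a, rfl⟩ y
  obtain ⟨c, π, σ, rfl⟩ := exists_word S y
  obtain ⟨a₁, h₁⟩ := field_conj_diag S σ a
  obtain ⟨a₂, h₂⟩ := graph_conj_diag S π a₁
  refine ⟨a₂, ?_⟩
  have e1 := congrArg (toOut D F) h₁
  have e2 := congrArg (toOut D F) h₂
  simp only [map_mul] at e1 e2
  have e3 : toOut D F (dHom S F c) * toOut D F (dHom S F a₂) =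
      toOut D F (dHom S F a₂) * toOut D F (dHom S F c) := by
    rw [← map_mul, ← map_mul, ← map_mul, ← map_mul, mul_comm]
  simp only [MonoidHom.comp_apply]
  calc toOut D F (dHom S F a₂) = toOut D F (dHom S F c) *
        (toOut D F (dHom S F a₂) * toOut D F (gAut π)) * (toOut D F (gAut π))⁻¹ *
          (toOut D F (dHom S F c))⁻¹ := by
          rw [← mul_assoc, e3]; group
    _ = toOut D F (dHom S F c) * toOut D F (gAut π) *
        (toOut D F (dHom S F a₁) * toOut D F (fHom S.cert F σ)) * (toOut D F (fHom S.cert F σ))⁻¹ *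
        (toOut D F (gAut π))⁻¹ * (toOut D F (dHom S F c))⁻¹ := by rw [← e2]; group
    _ = _ := by rw [← e1]; group

theorem sup_normal [Finite F] : (dBar S F ⊔ fBar S F).Normal := by
  have hn := dBar_normal (F := F) S
  refine ⟨?_⟩
  intro z hz y
  obtain ⟨c, π, σ, rfl⟩ := exists_word S y
  obtain ⟨_, ⟨a, rfl⟩, _, ⟨τ, rfl⟩, rfl⟩ := Subgroup.mem_sup_of_normal_left.1 hz
  obtain ⟨_, hy⟩ : ∃ u, u = toOut D F (dHom S F c) * toOut D F (gAut π) * toOut D F (fHom S.cert F σ) :=
    ⟨_, rfl⟩
  rw [← hy]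
  rename_i u
  rw [show u * (((toOut D F).comp (dHom S F)) a * ((toOut D F).comp (fHom S.cert F)) τ) * u⁻¹ =
    (u * ((toOut D F).comp (dHom S F)) a * u⁻¹) * (u * ((toOut D F).comp (fHom S.cert F)) τ * u⁻¹) by
    group]
  refine mul_mem (Subgroup.mem_sup_left (hn.conj_mem _ ⟨a, rfl⟩ u)) ?_
  obtain ⟨c', hc'⟩ := field_conj_diag S τ c⁻¹
  have e0 := congrArg (toOut D F) hc'
  simp only [map_mul, map_inv] at e0
  have e1 : toOut D F (gAut π) * toOut D F (fHom S.cert F τ) =
      toOut D F (fHom S.cert F τ) * toOut D F (gAut π) := by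
    rw [← map_mul, ← map_mul, graph_comm_field]
  have hcomm : ∀ a b : F ≃+* F, a * b = b * a := by
    obtain ⟨ea⟩ : Nonempty ((F ≃+* F) ≃* Multiplicative (ZMod (Nat.card (F ≃+* F)))) := by
      have := Fintype.ofFinite F
      obtain ⟨n, hp, hq⟩ := FiniteField.card F (ringChar F)
      haveI := Fact.mk hp
      obtain ⟨ea⟩ := AutPSL.Out.exists_ringAut_equiv (p := ringChar F) (f := n) hq
      have hn : Nat.card (F ≃+* F) = n := by
        rw [Nat.card_congr ea.toEquiv, Nat.card_congr Multiplicative.toAdd, Nat.card_zmod]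
      rw [hn]
      exact ⟨ea⟩
    exact fun a b => ea.injective (by rw [map_mul, map_mul, mul_comm])
  have e2 : toOut D F (fHom S.cert F σ) * toOut D F (fHom S.cert F τ) =
      toOut D F (fHom S.cert F τ) * toOut D F (fHom S.cert F σ) := by
    rw [← map_mul, ← map_mul, ← map_mul, ← map_mul, hcomm]
  have e : u * toOut D F (fHom S.cert F τ) * u⁻¹ =
      toOut D F (dHom S F c) * toOut D F (dHom S F c') * toOut D F (fHom S.cert F τ) := by
    rw [hy]
    calc _ = toOut D F (dHom S F c) * toOut D F (gAut π) *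
          (toOut D F (fHom S.cert F σ) * toOut D F (fHom S.cert F τ)) *
          (toOut D F (fHom S.cert F σ))⁻¹ * (toOut D F (gAut π))⁻¹ * (toOut D F (dHom S F c))⁻¹ := by
          group
      _ = toOut D F (dHom S F c) * (toOut D F (gAut π) * toOut D F (fHom S.cert F τ)) *
          (toOut D F (gAut π))⁻¹ * (toOut D F (dHom S F c))⁻¹ := by rw [e2]; group
      _ = toOut D F (dHom S F c) *
          (toOut D F (fHom S.cert F τ) * (toOut D F (dHom S F c))⁻¹) := by rw [e1]; group
      _ = _ := by rw [e0]; group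
  rw [MonoidHom.comp_apply, e]
  exact mul_mem (mul_mem (Subgroup.mem_sup_left ⟨c, rfl⟩) (Subgroup.mem_sup_left ⟨c', rfl⟩))
    (Subgroup.mem_sup_right ⟨τ, rfl⟩)

theorem index_eq [Finite F] : (dBar S F ⊔ fBar S F).index = Nat.card (Gam S F) := by
  have hn := dBar_normal (F := F) S
  let Φ : ((Fin D.rank → Fˣ) ⧸ torImage S F) × (F ≃+* F) → ↥(dBar S F ⊔ fBar S F) := fun x =>
    ⟨psi S (x.1.out, ⟨1, hasGraph_one S⟩, x.2), by
      rw [psi, gAut_one, mul_one, map_mul]
      exact Subgroup.mul_mem_sup ⟨_, rfl⟩ ⟨_, rfl⟩⟩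
  have hΦ : Function.Bijective Φ := by
    refine ⟨?_, ?_⟩
    · rintro ⟨q, σ⟩ ⟨q', σ'⟩ h
      obtain ⟨-, rfl, h'⟩ := (psi_eq_iff S _ _ _ _ _ _).1 (congrArg Subtype.val h)
      have h2 : q' = q := by
        rw [← QuotientGroup.out_eq' q, ← QuotientGroup.out_eq' q']
        exact QuotientGroup.eq.2 h'
      rw [h2]
    · rintro ⟨z, hz⟩
      obtain ⟨_, ⟨a, rfl⟩, _, ⟨τ, rfl⟩, rfl⟩ := Subgroup.mem_sup_of_normal_left.1 hz
      refine ⟨(QuotientGroup.mk a, τ), Subtype.ext ?_⟩
      show psi S _ = _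
      rw [(psi_eq_iff S _ a _ ⟨1, hasGraph_one S⟩ _ τ).2 ⟨rfl, rfl,
        QuotientGroup.eq.1 (QuotientGroup.out_eq' _).symm⟩, psi, gAut_one, mul_one, map_mul]
      rfl
  have h1 := Subgroup.card_mul_index (dBar S F ⊔ fBar S F)
  rw [card_out S, ← Nat.card_eq_of_bijective Φ hΦ, Nat.card_prod] at h1
  have hpos : 0 < Nat.card ((Fin D.rank → Fˣ) ⧸ torImage S F) * Nat.card (F ≃+* F) := by
    haveI : Finite (F ≃+* F) := Finite.of_injective _ DFunLike.coe_injective
    exact Nat.mul_pos Nat.card_pos Nat.card_pos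
  refine Nat.eq_of_mul_eq_mul_left hpos (h1.trans ?_)
  ring

theorem fBar_cyclic [Finite F] : IsCyclic (fBar S F) := by
  have := Fintype.ofFinite F
  obtain ⟨n, hp, hq⟩ := FiniteField.card F (ringChar F)
  haveI := Fact.mk hp
  obtain ⟨ea⟩ := AutPSL.Out.exists_ringAut_equiv (p := ringChar F) (f := n) hq
  haveI : IsCyclic (F ≃+* F) := isCyclic_of_surjective ea.symm.toMonoidHom ea.symm.surjective
  exact isCyclic_of_surjective ((toOut D F).comp (fHom S.cert F)).rangeRestrict
    (MonoidHom.rangeRestrict_surjective _)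

theorem dBar_comm : IsMulCommutative (dBar S F) := by
  refine ⟨⟨?_⟩⟩
  rintro ⟨_, a, rfl⟩ ⟨_, b, rfl⟩
  refine Subtype.ext ?_
  show _ * _ = _ * _
  rw [← map_mul, ← map_mul, mul_comm]

/-- Graph automorphisms without exponents compose. -/
theorem gAut_mul (h1 : noLong D = true) (a b : Gam S F) (h : HasGraph S.cert F (a.1 * b.1)) :
    gAut (S := S) ⟨a.1 * b.1, h⟩ = gAut a * gAut b := by
  have he : ∀ i j : Fin D.rank, D.graphExp (ringChar F) i j = 1 := fun i j => by
    simp only [noLong, List.all_eq_true, List.mem_range, Bool.not_eq_true'] at h1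
    rw [ChevalleyDatum.graphExp, h1 j j.2]
    rfl
  refine aut_ext S.cert fun i t => ?_
  have h0 := gAut_spec (S := S) (F := F) ⟨a.1 * b.1, h⟩ i t
  simp only [MulAut.mul_apply, (gAut_spec b i t).1, (gAut_spec b i t).2, h0.1, h0.2,
    (gAut_spec a (b.1 i) _).1, (gAut_spec a (b.1 i) _).2, he, pow_one, Equiv.Perm.mul_apply]
  exact ⟨trivial, trivial⟩

/-- A transposition of the D4 diagram. -/
def permA : Equiv.Perm (Fin 4) := Equiv.swap 0 2

/-- Another transposition of the D4 diagram. -/
def permB : Equiv.Perm (Fin 4) := Equiv.swap 2 3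

theorem hasGraph_adj_D4 [Finite F] (π : Equiv.Perm (Fin chevD4.rank)) :
    HasGraph setupD4.cert F π ↔ piL π ∈ symsD4 :=
  ⟨fun h => piL_mem setupD4.cert symBuild_D4
    (hasGraph_adjPres setupD4 h (bondAdj_of (by decide +kernel))), hasGraph_D4⟩

theorem gam_D4 [Finite F] : Nat.card (Gam setupD4 F) = 6 := by
  refine card_gam setupD4 [(1 : Equiv.Perm (Fin 4)), permB, permA, permB * permA, permA * permB,
    permA * permB * permA] (by decide +kernel) fun π => ?_
  rw [hasGraph_adj_D4]
  constructor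
  · intro h
    simp only [symsD4, List.mem_cons, List.not_mem_nil, or_false] at h
    have key : ∀ (π' : Equiv.Perm (Fin 4)) (l : List (Equiv.Perm (Fin 4))),
        piL (D := chevD4) π = piL (D := chevD4) π' → π' ∈ l → (π : Equiv.Perm (Fin 4)) ∈ l :=
      fun π' l e hl => by rw [show π = π' from piL_injective e]; exact hl
    rcases h with h | h | h | h | h | h <;>
      first
        | exact key 1 _ (h.trans (by decide +kernel))
            (by repeat' (first | exact List.mem_cons_self | apply List.mem_cons_of_mem))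
        | exact key permB _ (h.trans (by decide +kernel))
            (by repeat' (first | exact List.mem_cons_self | apply List.mem_cons_of_mem))
        | exact key permA _ (h.trans (by decide +kernel))
            (by repeat' (first | exact List.mem_cons_self | apply List.mem_cons_of_mem))
        | exact key (permB * permA) _ (h.trans (by decide +kernel))
            (by repeat' (first | exact List.mem_cons_self | apply List.mem_cons_of_mem))
        | exact key (permA * permB) _ (h.trans (by decide +kernel))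
            (by repeat' (first | exact List.mem_cons_self | apply List.mem_cons_of_mem))
        | exact key (permA * permB * permA) _ (h.trans (by decide +kernel))
            (by repeat' (first | exact List.mem_cons_self | apply List.mem_cons_of_mem))
  · intro h
    rcases List.mem_cons.1 h with rfl | h
    · decide +kernel
    rcases List.mem_cons.1 h with rfl | h
    · decide +kernel
    rcases List.mem_cons.1 h with rfl | h
    · decide +kernel
    rcases List.mem_cons.1 h with rfl | h
    · decide +kernel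
    rcases List.mem_cons.1 h with rfl | h
    · decide +kernel
    obtain rfl := List.mem_singleton.1 h
    decide +kernel

theorem commutator_not_le_D4 [Finite F] :
    ¬ commutator (Cfsg.Out (chevD4.group F)) ≤ dBar setupD4 F ⊔ fBar setupD4 F := by
  intro hle
  obtain ⟨a, ha⟩ : ∃ a : Gam setupD4 F, a.1 = (permA : Equiv.Perm (Fin 4)) :=
    ⟨⟨(permA : Equiv.Perm (Fin 4)), (hasGraph_adj_D4 _).2 (by decide +kernel)⟩, rfl⟩
  obtain ⟨b, hb⟩ : ∃ b : Gam setupD4 F, b.1 = (permB : Equiv.Perm (Fin 4)) :=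
    ⟨⟨(permB : Equiv.Perm (Fin 4)), (hasGraph_adj_D4 _).2 (by decide +kernel)⟩, rfl⟩
  have hn := dBar_normal (F := F) setupD4
  have hnl : noLong chevD4 = true := by decide +kernel
  have hab : HasGraph setupD4.cert F (a.1 * b.1) := by
    rw [ha, hb]; exact (hasGraph_adj_D4 _).2 (by decide +kernel)
  have hba : HasGraph setupD4.cert F (b.1 * a.1) := by
    rw [ha, hb]; exact (hasGraph_adj_D4 _).2 (by decide +kernel)
  have h1 : ⁅toOut chevD4 F (gAut a), toOut chevD4 F (gAut b)⁆ ∈
      dBar setupD4 F ⊔ fBar setupD4 F :=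
    hle (Subgroup.commutator_mem_commutator (Subgroup.mem_top _) (Subgroup.mem_top _))
  rw [commutatorElement_def, show toOut chevD4 F (gAut a) * toOut chevD4 F (gAut b) *
      (toOut chevD4 F (gAut a))⁻¹ * (toOut chevD4 F (gAut b))⁻¹ =
    toOut chevD4 F (gAut (S := setupD4) ⟨_, hab⟩) * (toOut chevD4 F (gAut (S := setupD4) ⟨_, hba⟩))⁻¹ by
      rw [gAut_mul setupD4 hnl a b hab, gAut_mul setupD4 hnl b a hba, map_mul, map_mul]; group] at h1
  obtain ⟨_, ⟨c, rfl⟩, _, ⟨τ, rfl⟩, e⟩ := Subgroup.mem_sup_of_normal_left.1 h1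
  rw [eq_mul_inv_iff_mul_eq] at e
  have e' : psi setupD4 (c, ⟨_, hba⟩, τ) = psi setupD4 (1, ⟨_, hab⟩, 1) := by
    simp only [psi, map_one, one_mul, mul_one, map_mul]
    rw [← show toOut chevD4 F (dHom setupD4 F c) * toOut chevD4 F (fHom setupD4.cert F τ) *
      toOut chevD4 F (gAut (S := setupD4) ⟨_, hba⟩) = toOut chevD4 F (gAut (S := setupD4) ⟨_, hab⟩)
      from e, mul_assoc, mul_assoc, ← map_mul (toOut chevD4 F) (fHom setupD4.cert F τ),
      ← graph_comm_field, map_mul]
  have h2 := ((psi_eq_iff setupD4 _ _ _ _ _ _).1 e').1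
  have h3 := congrArg Subtype.val h2
  simp only [ha, hb] at h3
  exact absurd h3 (by decide +kernel)

theorem index_cases [Finite F] (hD : D ∈ [chevG2, chevB2, chevD4, chevF4, chevE6, chevE7, chevE8]) :
    ∃ (T : Tab) (N : List (List ℤ)) (S : Setup D T N),
      (dBar S F ⊔ fBar S F).index = 1 ∨ (dBar S F ⊔ fBar S F).index = 2 ∨
        ((dBar S F ⊔ fBar S F).index = 6 ∧
          ¬ commutator (Cfsg.Out (D.group F)) ≤ dBar S F ⊔ fBar S F) := by
  simp only [List.mem_cons, List.not_mem_nil, or_false] at hD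
  rcases hD with rfl | rfl | rfl | rfl | rfl | rfl | rfl
  · refine ⟨_, _, setupG2, ?_⟩
    rw [index_eq, gam_G2]
    split_ifs <;> simp
  · refine ⟨_, _, setupB2, ?_⟩
    rw [index_eq, gam_B2]
    split_ifs <;> simp
  · refine ⟨_, _, setupD4, Or.inr (Or.inr ⟨?_, commutator_not_le_D4⟩)⟩
    rw [index_eq, gam_D4]
  · refine ⟨_, _, setupF4, ?_⟩
    rw [index_eq, gam_F4]
    split_ifs <;> simp
  · exact ⟨_, _, setupE6, Or.inr (Or.inl (by rw [index_eq, gam_E6]))⟩
  · exact ⟨_, _, setupE7, Or.inl (by rw [index_eq, gam_E7])⟩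
  · exact ⟨_, _, setupE8, Or.inl (by rw [index_eq, gam_E8])⟩

end Cfsg.Agent.Chevalley.AutThm
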