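import Cfsg.Agent.Lib.Chevalley.Aut.Data

/-!
Type by type: the adjacency symmetries, the graph automorphisms realising them, and the witnesses
against the others.
-/

set_option autoImplicit false

namespace Cfsg.Agent.Chevalley.AutThm

open Cfsg.Lie Cfsg.Agent.Chevalley.Table Cfsg.Agent.Chevalley.Cert Cfsg.Agent.Chevalley.GraphAut
  Cfsg.Agent.Chevalley.Types Cfsg.Agent.Chevalley.StKernel

/-- The listed symmetries of type D4. -/
def symsD4 : List (List ℕ) :=
  [[0, 1, 2, 3], [0, 1, 3, 2], [2, 1, 0, 3], [2, 1, 3, 0], [3, 1, 0, 2], [3, 1, 2, 0]]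

theorem symBuild_G2 : symBuild Cfsg.Agent.Chevalley.Data.G2.tab 2 = [[0, 1], [1, 0]] := by
  decide +kernel

theorem symBuild_B2 : symBuild Cfsg.Agent.Chevalley.Data.B2.tab 2 = [[0, 1], [1, 0]] := by
  decide +kernel

theorem symBuild_D4 : symBuild Cfsg.Agent.Chevalley.Data.D4.tab 4 = symsD4 := by
  decide +kernel

theorem symBuild_F4 : symBuild Cfsg.Agent.Chevalley.Data.F4.tab 4 = [[0, 1, 2, 3], [3, 2, 1, 0]] := by
  decide +kernel

theorem symBuild_E6 :
    symBuild Cfsg.Agent.Chevalley.Data.E6.tab 6 = [[0, 1, 2, 3, 4, 5], [5, 1, 4, 3, 2, 0]] := by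
  decide +kernel

theorem symBuild_E7 : symBuild Cfsg.Agent.Chevalley.Data.E7.tab 7 = [[0, 1, 2, 3, 4, 5, 6]] := by
  decide +kernel

theorem symBuild_E8 : symBuild Cfsg.Agent.Chevalley.Data.E8.tab 8 = [[0, 1, 2, 3, 4, 5, 6, 7]] := by
  decide +kernel

variable {F : Type*} [Field F]

theorem charOK_of_ringChar [Finite F] {p : ℕ} (hp : p.Prime) (h : ringChar F = p) : CharOK F p := by
  haveI : CharP F p := h ▸ ringChar.charP F
  haveI := Fact.mk hp
  exact Or.inr ⟨hp, inferInstance, fun x => (bijective_frobenius F p).2 x⟩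

theorem intCast_ne_zero_of_char {p : ℕ} (hp : p.Prime) (h : ringChar F ≠ p) : ((p : ℤ) : F) ≠ 0 := by
  rw [Int.cast_natCast]
  intro h0
  have h1 : ringChar F ∣ p := (ringChar.spec F p).1 h0
  rcases (Nat.dvd_prime hp).1 h1 with h2 | h2
  · have := ringChar.charP F
    rw [h2] at this
    exact CharP.false_of_nontrivial_of_char_one (R := F)
  · exact h h2

/-- The identity is realised. -/
theorem hasGraph_refl {D : ChevalleyDatum} {T : Tab} (hC : Certified D T) {P : List ℕ}
    (hP : P = List.range D.rank) {π : Equiv.Perm (Fin D.rank)} (hπ : piL π = P) :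
    HasGraph hC F π := by
  refine ⟨?_, graph_refl hC hP hπ⟩
  have e : π = 1 := Equiv.ext fun i => Fin.ext (by
    show (π i : ℕ) = i
    rw [← piL_getD π i, hπ, hP, List.getD_eq_getElem _ _ (by simp)]; simp)
  subst e
  intro i j _
  rfl

/-! ### Types G2, B2, F4 -/

theorem hasGraph_G2 [Finite F] (h : ringChar F = 3) {π : Equiv.Perm (Fin chevG2.rank)}
    (hπ : piL π = [1, 0]) : HasGraph setupG2.cert F π :=
  ⟨isDiagramSymmetry_of (S := [[1, 0]]) (by decide +kernel) (by simp [hπ]),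
    graph_of_tab setupG2.cert ⟨⟨_, CoefG2.coef_ok⟩, ⟨_, StCerts.conj_G2⟩⟩
      (charOK_of_ringChar Nat.prime_three h) (Or.inl h) GAut.rel_G2 GAut.onto_G2 GAut.simple_G2
      GAut.rel_G2 GAut.onto_G2 GAut.simple_G2 (fun _ => by decide +kernel) (q := 3) rfl
      (by decide +kernel) rfl hπ⟩

theorem excl_G2 (h : ringChar F ≠ 3) {π : Equiv.Perm (Fin chevG2.rank)} (hπ : piL π = [1, 0]) :
    Excl chevG2 F π :=
  excl_of_chk (L := [1, 0]) (i := 1) (z := 3) (by decide +kernel) hπ
    (intCast_ne_zero_of_char Nat.prime_three h)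

theorem hasGraph_B2 [Finite F] (h : ringChar F = 2) {π : Equiv.Perm (Fin chevB2.rank)}
    (hπ : piL π = [1, 0]) : HasGraph setupB2.cert F π :=
  ⟨isDiagramSymmetry_of (S := [[1, 0]]) (by decide +kernel) (by simp [hπ]),
    graph_of_tab setupB2.cert ⟨⟨_, CoefB2.coef_ok⟩, ⟨_, StCerts.conj_B2⟩⟩
      (charOK_of_ringChar Nat.prime_two h) (Or.inl h) GAut.rel_B2 GAut.onto_B2 GAut.simple_B2
      GAut.rel_B2 GAut.onto_B2 GAut.simple_B2 (fun _ => by decide +kernel) (q := 2) rfl
      (by decide +kernel) rfl hπ⟩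

theorem excl_B2 (h : ringChar F ≠ 2) {π : Equiv.Perm (Fin chevB2.rank)} (hπ : piL π = [1, 0]) :
    Excl chevB2 F π :=
  excl_of_chk (L := [0]) (i := 1) (z := 2) (by decide +kernel) hπ
    (intCast_ne_zero_of_char Nat.prime_two h)

theorem hasGraph_F4 [Finite F] (h : ringChar F = 2) {π : Equiv.Perm (Fin chevF4.rank)}
    (hπ : piL π = [3, 2, 1, 0]) : HasGraph setupF4.cert F π :=
  ⟨isDiagramSymmetry_of (S := [[3, 2, 1, 0]]) (by decide +kernel) (by simp [hπ]),
    graph_of_tab setupF4.cert ⟨⟨_, CoefF4.coef_ok⟩, ⟨_, StCerts.conj_F4⟩⟩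
      (charOK_of_ringChar Nat.prime_two h) (Or.inl h) GAut.rel_F4 GAut.onto_F4 GAut.simple_F4
      GAut.rel_F4 GAut.onto_F4 GAut.simple_F4 (fun _ => by decide +kernel) (q := 2) rfl
      (by decide +kernel) rfl hπ⟩

theorem excl_F4 (h : ringChar F ≠ 2) {π : Equiv.Perm (Fin chevF4.rank)}
    (hπ : piL π = [3, 2, 1, 0]) : Excl chevF4 F π :=
  excl_of_chk (L := [1]) (i := 2) (z := 2) (by decide +kernel) hπ
    (intCast_ne_zero_of_char Nat.prime_two h)

/-! ### Types D4 and E6 -/

theorem hasGraph_D4 {π : Equiv.Perm (Fin chevD4.rank)} (hπ : piL π ∈ symsD4) :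
    HasGraph setupD4.cert F π := by
  refine ⟨isDiagramSymmetry_of (S := symsD4) (by decide +kernel) hπ, ?_⟩
  have hT : HasCerts Cfsg.Agent.Chevalley.Data.D4.tab := ⟨⟨_, CoefD4.coef_ok⟩, ⟨_, StCerts.conj_D4⟩⟩
  simp only [symsD4, List.mem_cons, List.not_mem_nil, or_false] at hπ
  rcases hπ with h | h | h | h | h | h
  · exact graph_refl setupD4.cert (by decide +kernel) h
  · exact graph_of_tab setupD4.cert hT (p := 0) (Or.inl rfl)
      (Or.inr fun c => expChk_of_ones (by decide +kernel) c) D4Tab.rel_23 D4Tab.onto_23 D4Tab.simple_23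
      D4Tab.rel_23 D4Tab.onto_23 D4Tab.simple_23 (fun _ => expChk_of_ones (by decide +kernel) _) (q := 1)
      rfl (by decide +kernel) rfl h
  · exact graph_of_tab setupD4.cert hT (p := 0) (Or.inl rfl)
      (Or.inr fun c => expChk_of_ones (by decide +kernel) c) D4Tab.rel_02 D4Tab.onto_02 D4Tab.simple_02
      D4Tab.rel_02 D4Tab.onto_02 D4Tab.simple_02 (fun _ => expChk_of_ones (by decide +kernel) _) (q := 1)
      rfl (by decide +kernel) rfl h
  · exact graph_of_tab setupD4.cert hT (p := 0) (Or.inl rfl)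
      (Or.inr fun c => expChk_of_ones (by decide +kernel) c) GAut.rel_D4a GAut.onto_D4a GAut.simple_D4a
      GAut.rel_D4b GAut.onto_D4b GAut.simple_D4b (fun _ => expChk_of_ones (by decide +kernel) _) (q := 1)
      rfl (by decide +kernel) rfl h
  · exact graph_of_tab setupD4.cert hT (p := 0) (Or.inl rfl)
      (Or.inr fun c => expChk_of_ones (by decide +kernel) c) GAut.rel_D4b GAut.onto_D4b GAut.simple_D4b
      GAut.rel_D4a GAut.onto_D4a GAut.simple_D4a (fun _ => expChk_of_ones (by decide +kernel) _) (q := 1)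
      rfl (by decide +kernel) rfl h
  · exact graph_of_tab setupD4.cert hT (p := 0) (Or.inl rfl)
      (Or.inr fun c => expChk_of_ones (by decide +kernel) c) D4Tab.rel_03 D4Tab.onto_03 D4Tab.simple_03
      D4Tab.rel_03 D4Tab.onto_03 D4Tab.simple_03 (fun _ => expChk_of_ones (by decide +kernel) _) (q := 1)
      rfl (by decide +kernel) rfl h

theorem hasGraph_E6 {π : Equiv.Perm (Fin chevE6.rank)}
    (hπ : piL π ∈ [[0, 1, 2, 3, 4, 5], [5, 1, 4, 3, 2, 0]]) : HasGraph setupE6.cert F π := by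
  refine ⟨isDiagramSymmetry_of (by decide +kernel) hπ, ?_⟩
  simp only [List.mem_cons, List.not_mem_nil, or_false] at hπ
  rcases hπ with h | h
  · exact graph_refl setupE6.cert (by decide +kernel) h
  · exact graph_of_tab setupE6.cert ⟨⟨_, CoefE6.coef_ok⟩, ⟨_, StCerts.conj_E6⟩⟩ (p := 0) (Or.inl rfl)
      (Or.inr fun c => expChk_of_ones (by decide +kernel) c) GAut.rel_E6 GAut.onto_E6 GAut.simple_E6
      GAut.rel_E6 GAut.onto_E6 GAut.simple_E6 (fun _ => expChk_of_ones (by decide +kernel) _) (q := 1)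
      rfl (by decide +kernel) rfl h

/-- Every adjacency symmetry is realised or refuted. -/
theorem graph_or_excl [Finite F] {D : ChevalleyDatum} {T : Tab} {N : List (List ℤ)}
    (S : Setup D T N) {π : Equiv.Perm (Fin D.rank)} (hπ : AdjPres π) :
    HasGraph S.cert F π ∨ Excl D F π := by
  have h := S.mem
  simp only [List.mem_cons, List.not_mem_nil, or_false] at h
  rcases h with rfl | rfl | rfl | rfl | rfl | rfl | rfl
  · have hm := piL_mem setupG2.cert symBuild_G2 hπ
    simp only [List.mem_cons, List.not_mem_nil, or_false] at hm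
    rcases hm with h | h
    · exact Or.inl (hasGraph_refl S.cert (by decide +kernel) h)
    · by_cases hp : ringChar F = 3
      · exact Or.inl (hasGraph_G2 hp h)
      · exact Or.inr (excl_G2 hp h)
  · have hm := piL_mem setupB2.cert symBuild_B2 hπ
    simp only [List.mem_cons, List.not_mem_nil, or_false] at hm
    rcases hm with h | h
    · exact Or.inl (hasGraph_refl S.cert (by decide +kernel) h)
    · by_cases hp : ringChar F = 2
      · exact Or.inl (hasGraph_B2 hp h)
      · exact Or.inr (excl_B2 hp h)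
  · exact Or.inl (hasGraph_D4 (piL_mem setupD4.cert symBuild_D4 hπ))
  · have hm := piL_mem setupF4.cert symBuild_F4 hπ
    simp only [List.mem_cons, List.not_mem_nil, or_false] at hm
    rcases hm with h | h
    · exact Or.inl (hasGraph_refl S.cert (by decide +kernel) h)
    · by_cases hp : ringChar F = 2
      · exact Or.inl (hasGraph_F4 hp h)
      · exact Or.inr (excl_F4 hp h)
  · exact Or.inl (hasGraph_E6 (piL_mem setupE6.cert symBuild_E6 hπ))
  · have hm := piL_mem setupE7.cert symBuild_E7 hπ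
    rw [List.mem_singleton] at hm
    exact Or.inl (hasGraph_refl S.cert (by decide +kernel) hm)
  · have hm := piL_mem setupE8.cert symBuild_E8 hπ
    rw [List.mem_singleton] at hm
    exact Or.inl (hasGraph_refl S.cert (by decide +kernel) hm)

theorem exists_setup {D : ChevalleyDatum}
    (hD : D ∈ [chevG2, chevB2, chevD4, chevF4, chevE6, chevE7, chevE8]) :
    ∃ (T : Tab) (N : List (List ℤ)), Setup D T N := by
  simp only [List.mem_cons, List.not_mem_nil, or_false] at hD
  rcases hD with rfl | rfl | rfl | rfl | rfl | rfl | rfl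
  exacts [⟨_, _, setupG2⟩, ⟨_, _, setupB2⟩, ⟨_, _, setupD4⟩, ⟨_, _, setupF4⟩, ⟨_, _, setupE6⟩,
    ⟨_, _, setupE7⟩, ⟨_, _, setupE8⟩]

end Cfsg.Agent.Chevalley.AutThm
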