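import Cfsg.Agent.Lib.Chevalley.Aut.Frame
import Cfsg.Agent.SimpleFacts.ChevalleyDiag

/-!
Diagonal automorphisms: a character of the root lattice with prescribed values on the fundamental
roots, and the automorphism it induces.
-/

set_option autoImplicit false

open scoped Matrix Pointwise

namespace Cfsg.Agent.Chevalley.AutThm

open Cfsg.Lie Cfsg.Agent.Chevalley.Eval Cfsg.Agent.Chevalley.Table Cfsg.Agent.Chevalley.Check
  Cfsg.Agent.Chevalley.Cert Cfsg.Agent.Chevalley.Relations Cfsg.Agent.Chevalley.Group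
  Cfsg.Agent.Chevalley.Borel Cfsg.Agent.Chevalley.Coef Cfsg.Agent.Chevalley.Graded

variable {D : ChevalleyDatum} {F : Type*} [Field F] {T : Tab}

/-- Each form, divided by its value at its own fundamental root, is integral on the roots. -/
noncomputable def intChk (T : Tab) (N : List (List ℤ)) : Bool :=
  allR T.l fun m => allR T.n fun r =>
    !isZ (formT T N m (T.simple m)) &&
      isZ (formT T N m r / formT T N m (T.simple m) * formT T N m (T.simple m) - formT T N m r)

/-- The coefficient of a fundamental root in a root. -/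
noncomputable def rootCoef (T : Tab) (N : List (List ℤ)) (m r : ℕ) : ℤ :=
  formT T N m r / formT T N m (T.simple m)

theorem formT_eq_lin (hC : Certified D T) {N : List (List ℤ)} (m : ℕ) {r : ℕ} (hr : r < D.nroots) :
    formT T N m r = lin D (entry N m) r := by
  have key : ∀ k ≤ D.rank,
      (∑ j ∈ Finset.range k, entry N m j * D.cartan j r) =
        (Nat.rec 0 (fun j ih => Int.add (Int.mul (entry N m j) (T.A j r)) ih) k : ℤ) := by
    intro k
    induction k with
    | zero => intro _; simp
    | succ k ih =>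
      intro hk
      rw [Finset.sum_range_succ, ih (by omega)]
      show _ = entry N m k * T.A k r + _
      rw [hC.linked.A_eq k (by omega) r hr]
      exact add_comm _ _
  rw [lin, key _ le_rfl, formT, hC.l_eq]

variable (hC : Certified D T) {N : List (List ℤ)} (hN : coefChk T N = true)
  (hI : intChk T N = true)
include hC hI

theorem rootCoef_spec {m : ℕ} (hm : m < D.rank) {r : ℕ} (hr : r < D.nroots) :
    lin D (entry N m) (D.simple m) ≠ 0 ∧
      rootCoef T N m r * lin D (entry N m) (D.simple m) = lin D (entry N m) r := by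
  have h := of_allR (of_allR hI m (by rw [hC.l_eq]; exact hm)) r (by rw [hC.n_eq]; exact hr)
  simp only [Bool.and_eq_true, Bool.not_eq_true'] at h
  have e : formT T N m (T.simple m) = lin D (entry N m) (D.simple m) := by
    rw [hC.simple_eq hm, formT_eq_lin hC m (hC.simple_lt hm)]
  refine ⟨fun e0 => ?_, ?_⟩
  · have := h.1
    rw [(isZ_iff _).2 (e.trans e0)] at this
    exact Bool.noConfusion this
  · rw [← formT_eq_lin hC m hr, ← e]
    exact sub_eq_zero.1 ((isZ_iff _).1 h.2)

include hN in
theorem rootCoef_simple {m j : ℕ} (hm : m < D.rank) (hj : j < D.rank) :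
    rootCoef T N m (D.simple j) = if j = m then 1 else 0 := by
  obtain ⟨h0, h1⟩ := rootCoef_spec hC hI hm (hC.simple_lt hj)
  refine mul_right_cancel₀ h0 (h1.trans ?_)
  by_cases hjm : j = m
  · rw [if_pos hjm, hjm, one_mul]
  · rw [if_neg hjm, zero_mul]
    have h2 := of_allR (of_allR hN m (by rw [hC.l_eq]; exact hm)) (D.simple j)
      (by rw [hC.n_eq]; exact hC.simple_lt hj)
    simp only [Bool.and_eq_true] at h2
    have hc : T.C (D.simple j) m = 0 := by
      rw [hC.linked.C_eq _ (hC.simple_lt hj) m hm,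
        show (D.coroot.getD (D.simple j) #[]).getD m 0 = cor D (D.simple j) m from rfl,
        hC.cor_simple hj hm, if_neg hjm]
    have h3 := h2.1
    rw [(isZ_iff _).2 hc, cond_true] at h3
    rw [← formT_eq_lin hC m (hC.simple_lt hj)]
    exact (isZ_iff _).1 h3

/-- The character with prescribed values on the fundamental roots. -/
noncomputable def charOf (T : Tab) (N : List (List ℤ)) (c : Fin D.rank → Fˣ) (r : ℕ) : Fˣ :=
  ∏ m : Fin D.rank, c m ^ rootCoef T N m r

theorem charOf_isRootCharacter (c : Fin D.rank → Fˣ) : D.IsRootCharacter (charOf T N c) := by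
  refine ⟨fun r hr => ?_, fun r s k hr hs hk => ?_⟩
  · rw [charOf, charOf, ← Finset.prod_inv_distrib]
    refine Finset.prod_congr rfl fun m _ => ?_
    rw [← zpow_neg]
    congr 1
    obtain ⟨h0, h1⟩ := rootCoef_spec hC hI m.2 hr
    obtain ⟨-, h2⟩ := rootCoef_spec hC hI m.2 (hC.neg_lt hr)
    refine mul_right_cancel₀ h0 ?_
    rw [h2, lin_neg hC _ hr, neg_mul, h1]
  · obtain ⟨q, hq, hqk⟩ := Option.map_eq_some_iff.1 hk
    have hkl : k < D.nroots := hqk ▸ (hC.chain_step hr hq).1
    rw [charOf, charOf, charOf, ← Finset.prod_mul_distrib]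
    refine Finset.prod_congr rfl fun m _ => ?_
    rw [← zpow_add]
    congr 1
    obtain ⟨h0, h1⟩ := rootCoef_spec hC hI m.2 hr
    obtain ⟨-, h2⟩ := rootCoef_spec hC hI m.2 hs
    obtain ⟨-, h3⟩ := rootCoef_spec hC hI m.2 hkl
    refine mul_right_cancel₀ h0 ?_
    rw [h3, add_mul, h1, h2, ← hqk, lin_chain hC _ hr hq]
    push_cast
    ring

include hN in
theorem charOf_simple (c : Fin D.rank → Fˣ) (j : Fin D.rank) :
    charOf T N c (D.simple j) = c j := by
  rw [charOf, Finset.prod_eq_single j]
  · rw [rootCoef_simple hC hN hI j.2 j.2, if_pos rfl, zpow_one]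
  · intro m _ hm
    rw [rootCoef_simple hC hN hI m.2 j.2, if_neg (fun e => hm (Fin.ext e.symm)), zpow_zero]
  · intro h
    exact absurd (Finset.mem_univ j) h

omit hI in
/-- The automorphism induced by a character. -/
theorem exists_diag {χ : ℕ → Fˣ} (hχ : D.IsRootCharacter χ)
    (hc : SimpleFacts.ChevalleyChar.consChk T = true) :
    ∃ d : D.group F ≃* D.group F, D.IsDiagonalAut d ∧
      ∀ r t, r < D.nroots → d (gx hC r t) = gx hC r ((χ r : F) * t) := by
  have key : ∀ χ : ℕ → Fˣ, D.IsRootCharacter χ → ∀ g ∈ D.group F,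
      dg D F χ * g * (dg D F χ)⁻¹ ∈ D.group F := by
    intro χ hχ g hg
    rw [group_eq_closure hC] at hg
    induction hg using Subgroup.closure_induction with
    | mem x hx =>
      obtain ⟨r, t, hr, rfl⟩ := hx
      rw [SimpleFacts.ChevalleyDiag.dg_conj_xg hC hc hχ hr]
      exact xg_mem_group hC hr _
    | one => simp
    | mul x y _ _ ihx ihy =>
      rw [show dg D F χ * (x * y) * (dg D F χ)⁻¹ =
        (dg D F χ * x * (dg D F χ)⁻¹) * (dg D F χ * y * (dg D F χ)⁻¹) by group]
      exact mul_mem ihx ihy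
    | inv x _ ih =>
      rw [show dg D F χ * x⁻¹ * (dg D F χ)⁻¹ = (dg D F χ * x * (dg D F χ)⁻¹)⁻¹ by group]
      exact inv_mem ih
  have hinv : D.IsRootCharacter (fun s => (χ s)⁻¹) :=
    ⟨fun r hr => by simp only [hχ.1 r hr],
      fun r s k hr hs h => by simp only [hχ.2 r s k hr hs h, mul_inv]⟩
  let d : D.group F ≃* D.group F :=
    { toFun := fun g => ⟨dg D F χ * (g : GL D.Idx F) * (dg D F χ)⁻¹, key χ hχ _ g.2⟩
      invFun := fun g => ⟨(dg D F χ)⁻¹ * (g : GL D.Idx F) * dg D F χ, by
        have := key _ hinv _ g.2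
        rwa [show dg D F (fun s => (χ s)⁻¹) = (dg D F χ)⁻¹ from (dg_inv χ).symm, inv_inv] at this⟩
      left_inv := fun g => Subtype.ext (by simp only; group)
      right_inv := fun g => Subtype.ext (by simp only; group)
      map_mul' := fun g h => Subtype.ext (by simp only [Subgroup.coe_mul]; group) }
  refine ⟨d, ⟨χ, hχ, fun g => ?_⟩, fun r t hr => Subtype.ext ?_⟩
  · show (((dg D F χ * (g : GL D.Idx F) * (dg D F χ)⁻¹ : GL D.Idx F)) : Matrix D.Idx D.Idx F) = _
    rw [Units.val_mul, Units.val_mul, dg_inv, coe_dg, coe_dg, SimpleFacts.ChevalleyDiag.charDiag_eq,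
      SimpleFacts.ChevalleyDiag.charDiag_eq]
    rfl
  · exact SimpleFacts.ChevalleyDiag.dg_conj_xg hC hc hχ hr t

end Cfsg.Agent.Chevalley.AutThm
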