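import Cfsg.Agent.Lib.Chevalley.Aut.Symm
import Cfsg.Agent.Lib.Chevalley.Aut.Diagonal
import Cfsg.Agent.Lib.Chevalley.Types.GAut
import Cfsg.Agent.Lib.Chevalley.Types.StCerts

/-!
The seven data: checks, the transpositions of the diagram of type D4, and the decision, for every
adjacency symmetry, between a graph automorphism and a witness against one.
-/

set_option autoImplicit false

namespace Cfsg.Agent.Chevalley.AutThm

open Cfsg.Lie Cfsg.Agent.Chevalley.Table Cfsg.Agent.Chevalley.Cert Cfsg.Agent.Chevalley.Coef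
  Cfsg.Agent.Chevalley.GraphAut Cfsg.Agent.Chevalley.Types Cfsg.Agent.Chevalley.StKernel

/-- The nodes reached in the given number of steps along simple bonds. -/
def reach (D : ChevalleyDatum) : ℕ → List ℕ
  | 0 => [0]
  | k + 1 => (List.range D.rank).filter fun v => (reach D k).contains v || (reach D k).any fun u =>
      D.cartan u (D.simple v) == -1 || D.cartan v (D.simple u) == -1

/-- The diagram is connected through entries `-1` of the Cartan matrix. -/
def connChk (D : ChevalleyDatum) : Bool :=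
  0 < D.rank && (List.range D.rank).all fun v => (reach D D.rank).contains v

/-- No fundamental root is long. -/
def noLong (D : ChevalleyDatum) : Bool :=
  (List.range D.rank).all fun i => !D.isLong (D.simple i)

/-- All exponents are one. -/
def onesChk (D : ChevalleyDatum) (L : List (ℕ × ℕ)) : Bool :=
  noLong D && ((List.range D.rank).all fun i =>
    decide ((L.getD i (0, 1)).1 < D.rank) && (L.getD i (0, 1)).2 == 1)

theorem expChk_of_ones {D : ChevalleyDatum} {L : List (ℕ × ℕ)} (h : onesChk D L = true) (c : ℕ) :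
    expChk D c L = true := by
  simp only [onesChk, noLong, Bool.and_eq_true, List.all_eq_true, List.mem_range, Bool.not_eq_true',
    decide_eq_true_eq, beq_iff_eq] at h
  simp only [expChk, List.all_eq_true, List.mem_range, beq_iff_eq]
  intro i hi
  obtain ⟨hj, he⟩ := h.2 i hi
  rw [he, ChevalleyDatum.graphExp, h.1 _ hj]
  rfl

namespace D4Tab

/-- The table 02. -/
def tab02 : GTab :=
  ⟨[0, 1, 2, 6, 7, 10, 3, 4, 8, 9, 5, 11, 12, 18, 14, 15, 19, 20, 13, 16, 17, 21, 22, 23],
   [1, 1, 1, -1, -1, 1, -1, -1, 1, 1, 1, 1, 1, 1, 1, 1, -1, -1, 1, -1, -1, 1, 1, 1],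
   [1, 1, 1, 1, 1, 1, 1, 1, 1, 1, 1, 1, 1, 1, 1, 1, 1, 1, 1, 1, 1, 1, 1, 1]⟩

theorem rel_02 : relChk Cfsg.Agent.Chevalley.Data.D4.tab 0 tab02 = true := by decide +kernel

theorem onto_02 : ontoChk Cfsg.Agent.Chevalley.Data.D4.tab tab02 = true := by decide +kernel

theorem simple_02 : simpleChk Cfsg.Agent.Chevalley.Data.D4.tab tab02
    [(2, 1), (1, 1), (0, 1), (3, 1)] = true := by decide +kernel

/-- The table 03. -/
def tab03 : GTab :=
  ⟨[0, 1, 6, 3, 8, 11, 2, 7, 4, 9, 10, 5, 18, 13, 14, 19, 16, 21, 12, 15, 20, 17, 22, 23],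
   [1, 1, -1, 1, -1, 1, -1, 1, -1, 1, 1, 1, 1, 1, 1, -1, 1, -1, 1, -1, 1, -1, 1, 1],
   [1, 1, 1, 1, 1, 1, 1, 1, 1, 1, 1, 1, 1, 1, 1, 1, 1, 1, 1, 1, 1, 1, 1, 1]⟩

theorem rel_03 : relChk Cfsg.Agent.Chevalley.Data.D4.tab 0 tab03 = true := by decide +kernel

theorem onto_03 : ontoChk Cfsg.Agent.Chevalley.Data.D4.tab tab03 = true := by decide +kernel

theorem simple_03 : simpleChk Cfsg.Agent.Chevalley.Data.D4.tab tab03
    [(3, 1), (1, 1), (2, 1), (0, 1)] = true := by decide +kernel

/-- The table 23. -/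
def tab23 : GTab :=
  ⟨[0, 1, 3, 2, 4, 5, 6, 8, 7, 9, 11, 10, 13, 12, 14, 16, 15, 17, 18, 19, 21, 20, 22, 23],
   [1, 1, 1, 1, 1, 1, 1, 1, 1, 1, 1, 1, 1, 1, 1, 1, 1, 1, 1, 1, 1, 1, 1, 1],
   [1, 1, 1, 1, 1, 1, 1, 1, 1, 1, 1, 1, 1, 1, 1, 1, 1, 1, 1, 1, 1, 1, 1, 1]⟩

theorem rel_23 : relChk Cfsg.Agent.Chevalley.Data.D4.tab 0 tab23 = true := by decide +kernel

theorem onto_23 : ontoChk Cfsg.Agent.Chevalley.Data.D4.tab tab23 = true := by decide +kernel

theorem simple_23 : simpleChk Cfsg.Agent.Chevalley.Data.D4.tab tab23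
    [(0, 1), (1, 1), (3, 1), (2, 1)] = true := by decide +kernel

end D4Tab

/-- What the main argument needs of a datum. -/
structure Setup (D : ChevalleyDatum) (T : Tab) (N : List (List ℤ)) : Prop where
  cert : Certified D T
  coef : coefChk T N = true
  int : intChk T N = true
  cons : SimpleFacts.ChevalleyChar.consChk T = true
  conn : connChk D = true
  mem : D ∈ [chevG2, chevB2, chevD4, chevF4, chevE6, chevE7, chevE8]

/-- Over a field, `π` has a graph automorphism. -/
def HasGraph {D : ChevalleyDatum} {T : Tab} (hC : Certified D T) (F : Type*) [Field F]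
    (π : Equiv.Perm (Fin D.rank)) : Prop :=
  D.IsDiagramSymmetry π ∧ ∃ g : D.group F ≃* D.group F, IsGraphOf hC π g

/-- The forms of type G2. -/
def formsG2 : List (List ℤ) := [[2, 3], [1, 2]]

theorem setupG2 : Setup chevG2 Cfsg.Agent.Chevalley.Data.G2.tab formsG2 where
  cert := G2.certified
  coef := CoefG2.coef_ok
  int := by decide +kernel
  cons := by decide +kernel
  conn := by decide +kernel
  mem := by simp

/-- The forms of type B2. -/
def formsB2 : List (List ℤ) := [[2, 2], [1, 2]]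

theorem setupB2 : Setup chevB2 Cfsg.Agent.Chevalley.Data.B2.tab formsB2 where
  cert := B2.certified
  coef := CoefB2.coef_ok
  int := by decide +kernel
  cons := by decide +kernel
  conn := by decide +kernel
  mem := by simp

/-- The forms of type D4. -/
def formsD4 : List (List ℤ) := [[2, 2, 1, 1], [2, 4, 2, 2], [1, 2, 2, 1], [1, 2, 1, 2]]

theorem setupD4 : Setup chevD4 Cfsg.Agent.Chevalley.Data.D4.tab formsD4 where
  cert := D4.certified
  coef := CoefD4.coef_ok
  int := by decide +kernel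
  cons := by decide +kernel
  conn := by decide +kernel
  mem := by simp

/-- The forms of type F4. -/
def formsF4 : List (List ℤ) := [[2, 3, 4, 2], [3, 6, 8, 4], [2, 4, 6, 3], [1, 2, 3, 2]]

theorem setupF4 : Setup chevF4 Cfsg.Agent.Chevalley.Data.F4.tab formsF4 where
  cert := F4.certified
  coef := CoefF4.coef_ok
  int := by decide +kernel
  cons := by decide +kernel
  conn := by decide +kernel
  mem := by simp

/-- The forms of type E6. -/
def formsE6 : List (List ℤ) := [[4, 3, 5, 6, 4, 2], [3, 6, 6, 9, 6, 3], [5, 6, 10, 12, 8, 4], [6, 9, 12, 18, 12, 6], [4, 6, 8, 12, 10, 5], [2, 3, 4, 6, 5, 4]]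

theorem setupE6 : Setup chevE6 Cfsg.Agent.Chevalley.Data.E6.tab formsE6 where
  cert := E6.certified
  coef := CoefE6.coef_ok
  int := by decide +kernel
  cons := by decide +kernel
  conn := by decide +kernel
  mem := by simp

/-- The forms of type E7. -/
def formsE7 : List (List ℤ) := [[4, 4, 6, 8, 6, 4, 2], [4, 7, 8, 12, 9, 6, 3], [6, 8, 12, 16, 12, 8, 4], [8, 12, 16, 24, 18, 12, 6], [6, 9, 12, 18, 15, 10, 5], [4, 6, 8, 12, 10, 8, 4], [2, 3, 4, 6, 5, 4, 3]]

theorem setupE7 : Setup chevE7 Cfsg.Agent.Chevalley.Data.E7.tab formsE7 where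
  cert := E7.certified
  coef := CoefE7.coef_ok
  int := by decide +kernel
  cons := by decide +kernel
  conn := by decide +kernel
  mem := by simp

/-- The forms of type E8. -/
def formsE8 : List (List ℤ) := [[4, 5, 7, 10, 8, 6, 4, 2], [5, 8, 10, 15, 12, 9, 6, 3], [7, 10, 14, 20, 16, 12, 8, 4], [10, 15, 20, 30, 24, 18, 12, 6], [8, 12, 16, 24, 20, 15, 10, 5], [6, 9, 12, 18, 15, 12, 8, 4], [4, 6, 8, 12, 10, 8, 6, 3], [2, 3, 4, 6, 5, 4, 3, 2]]

theorem setupE8 : Setup chevE8 Cfsg.Agent.Chevalley.Data.E8.tab formsE8 where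
  cert := E8.certified
  coef := CoefE8.coef_ok
  int := by decide +kernel
  cons := by decide +kernel
  conn := by decide +kernel
  mem := by simp

end Cfsg.Agent.Chevalley.AutThm
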