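import Cfsg.Agent.Lib.Chevalley.Parabolic
import Cfsg.Agent.Lib.Chevalley.NormalForm
import Cfsg.Agent.SimpleFacts.ChevalleySylow

/-!
The frame of a Chevalley group over a finite field: the subgroups `U`, `V` and the root subgroups
of the fundamental roots and their negatives, and what an automorphism can do to them.
-/

set_option autoImplicit false

open scoped Matrix Pointwise

namespace Cfsg.Agent.Chevalley.AutThm

open Cfsg.Lie Cfsg.Agent.Chevalley.Table Cfsg.Agent.Chevalley.Check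
  Cfsg.Agent.Chevalley.Cert Cfsg.Agent.Chevalley.Relations Cfsg.Agent.Chevalley.Group Cfsg.Agent.Chevalley.Weight
  Cfsg.Agent.Chevalley.Unip Cfsg.Agent.Chevalley.Borel Cfsg.Agent.Chevalley.Weyl
  Cfsg.Agent.Chevalley.Bruhat Cfsg.Agent.Chevalley.Coef Cfsg.Agent.Chevalley.Graded

variable {D : ChevalleyDatum} {F : Type*} [Field F] {T : Tab}

/-- The positive unipotent subgroup, inside the group. -/
abbrev Ug (D : ChevalleyDatum) (F : Type*) [Field F] : Subgroup (D.group F) :=
  (D.posUnipotent F).subgroupOf (D.group F)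

/-- The negative unipotent subgroup, inside the group. -/
abbrev Vg (D : ChevalleyDatum) (F : Type*) [Field F] : Subgroup (D.group F) :=
  (D.negUnipotent F).subgroupOf (D.group F)

/-- The Borel subgroup, inside the group. -/
abbrev Bg (D : ChevalleyDatum) (F : Type*) [Field F] : Subgroup (D.group F) :=
  (D.borelSubgroup F).subgroupOf (D.group F)

/-- The diagonal subgroup, inside the group. -/
abbrev Hg (D : ChevalleyDatum) (F : Type*) [Field F] : Subgroup (D.group F) :=
  (D.diagonalSubgroup F).subgroupOf (D.group F)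

theorem xg_mem_group' (hC : Certified D T) (r : ℕ) (t : F) : xg hC r t ∈ D.group F := by
  by_cases hr : r < D.nroots
  · exact xg_mem_group hC hr t
  · have : xg hC r t = 1 := Units.ext (by rw [coe_xg, ChevalleyDatum.x, dif_neg hr, Units.val_one])
    rw [this]
    exact one_mem _

/-- A root element of the group. -/
def gx (hC : Certified D T) (r : ℕ) (t : F) : D.group F := ⟨xg hC r t, xg_mem_group' hC r t⟩

/-- The monomial element of a root. -/
def gn (hC : Certified D T) (r : ℕ) (t : F) : D.group F :=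
  gx hC r t * gx hC (D.neg r) (-t⁻¹) * gx hC r t

/-- The monomial element of a word. -/
def gnL (hC : Certified D T) (F : Type*) [Field F] (L : List ℕ) : D.group F :=
  (L.map fun i => gn hC (D.simple i) (1 : F)).prod

variable (hC : Certified D T)
include hC

@[simp] theorem coe_gx (r : ℕ) (t : F) : (gx hC r t : GL D.Idx F) = xg hC r t := rfl

@[simp] theorem coe_gn (r : ℕ) (t : F) : (gn hC r t : GL D.Idx F) = ng hC r t := rfl

theorem coe_gnL (L : List ℕ) : (gnL hC F L : GL D.Idx F) = nL hC F L := by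
  induction L with
  | nil => simp [gnL, nL]
  | cons i L ih =>
    rw [nL_cons, ← ih]
    simp [gnL]

theorem gx_add (r : ℕ) (t u : F) : gx hC r (t + u) = gx hC r t * gx hC r u :=
  Subtype.ext (xg_add hC r t u)

theorem gx_zero (r : ℕ) : gx hC r (0 : F) = 1 := Subtype.ext (xg_zero hC r)

theorem gx_inv (r : ℕ) (t : F) : (gx hC r t)⁻¹ = gx hC r (-t) := Subtype.ext (xg_inv hC r t)

theorem gx_injective {r : ℕ} (hr : r < D.nroots) : Function.Injective (gx (F := F) hC r) :=
  fun _ _ h => xg_injective hC hr (congrArg Subtype.val h)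

theorem gx_mem_U {r : ℕ} (hr : r < D.nroots) (hp : 0 < T.phi r) (t : F) : gx hC r t ∈ Ug D F :=
  Subgroup.mem_subgroupOf.2 (xg_mem_U hC hr hp t)

theorem gx_mem_V {r : ℕ} (hr : r < D.nroots) (hp : T.phi r < 0) (t : F) : gx hC r t ∈ Vg D F :=
  Subgroup.mem_subgroupOf.2 (xg_mem_V hC hr hp t)

theorem gx_pos_mem {i : ℕ} (hi : i < D.rank) (t : F) : gx hC (D.simple i) t ∈ Ug D F :=
  gx_mem_U hC (hC.simple_lt hi) (hC.phi_simple hi) t

theorem gx_neg_mem {i : ℕ} (hi : i < D.rank) (t : F) :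
    gx hC (D.neg (D.simple i)) t ∈ Vg D F := by
  refine gx_mem_V hC (hC.neg_lt (hC.simple_lt hi)) ?_ t
  rw [hC.phi_neg (hC.simple_lt hi)]
  have := hC.phi_simple hi
  omega

theorem U_inf_V_g {g : D.group F} (h1 : g ∈ Ug D F) (h2 : g ∈ Vg D F) : g = 1 :=
  Subtype.ext (U_inf_V hC (Subgroup.mem_subgroupOf.1 h1) (Subgroup.mem_subgroupOf.1 h2))

theorem U_le_group : D.posUnipotent F ≤ D.group F := le_sup_left.trans (U_sup_V hC).le

theorem V_le_group : D.negUnipotent F ≤ D.group F := le_sup_right.trans (U_sup_V hC).le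

omit hC in
theorem map_subgroupOf {G : Type*} [Group G] {K A A' : Subgroup G} (g : K) (hA : A ≤ K)
    (h : A.map (MulAut.conj (g : G)).toMonoidHom = A') :
    (A.subgroupOf K).map (MulAut.conj g).toMonoidHom = A'.subgroupOf K := by
  subst h
  ext x
  simp only [Subgroup.mem_subgroupOf, Subgroup.mem_map, MulEquiv.coe_toMonoidHom, MulAut.conj_apply]
  constructor
  · rintro ⟨y, hy, rfl⟩
    exact ⟨y, hy, by simp⟩
  · rintro ⟨y, hy, e⟩
    exact ⟨⟨y, hA hy⟩, hy, Subtype.ext (by simpa using e)⟩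

omit hC in
theorem conj_map_trans {G : Type*} [Group G] (A : Subgroup G) (g g' : G) :
    (A.map (MulAut.conj g').toMonoidHom).map (MulAut.conj g).toMonoidHom =
      A.map (MulAut.conj (g * g')).toMonoidHom := by
  rw [Subgroup.map_map]
  congr 1
  ext x
  simp [mul_assoc]

omit hC in
theorem conj_map_one {G : Type*} [Group G] (A : Subgroup G) :
    A.map (MulAut.conj (1 : G)).toMonoidHom = A := by
  have : (MulAut.conj (1 : G)).toMonoidHom = MonoidHom.id G := by ext x; simp
  rw [this, Subgroup.map_id]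

omit hC in
theorem conj_map_inv {G : Type*} [Group G] {A A' : Subgroup G} {g : G}
    (h : A.map (MulAut.conj g).toMonoidHom = A') : A'.map (MulAut.conj g⁻¹).toMonoidHom = A := by
  rw [← h, conj_map_trans, inv_mul_cancel, conj_map_one]

/-- A monomial element moving a set of roots onto another moves the generated subgroups. -/
theorem map_conj_closure {L : List ℕ} (hL : ∀ i ∈ L, i < D.rank) (c : ℕ → Fˣ) {P Q : ℕ → Prop}
    (h : ∀ r < D.nroots, P r ↔ Q (wL D L r)) :
    (Subgroup.closure {g : GL D.Idx F | ∃ (r : ℕ) (t : F), r < D.nroots ∧ P r ∧ g = xg hC r t}).map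
        (MulAut.conj (tor D c * nL hC F L)).toMonoidHom =
      Subgroup.closure {g : GL D.Idx F | ∃ (r : ℕ) (t : F), r < D.nroots ∧ Q r ∧ g = xg hC r t} := by
  rw [MonoidHom.map_closure]
  congr 1
  ext g
  simp only [Set.mem_image, Set.mem_setOf_eq, MulEquiv.coe_toMonoidHom, MulAut.conj_apply]
  constructor
  · rintro ⟨_, ⟨r, t, hr, hp, rfl⟩, rfl⟩
    obtain ⟨η, -, hη⟩ := NormalForm.conj_xg (F := F) hC hL c hr
    exact ⟨wL D L r, η * t, wL_lt hC hL hr, (h r hr).1 hp, hη t⟩
  · rintro ⟨s, t, hs, hp, rfl⟩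
    have hLr : ∀ i ∈ L.reverse, i < D.rank := fun i hi => hL i (List.mem_reverse.1 hi)
    obtain ⟨η, hη0, hη⟩ := NormalForm.conj_xg (F := F) hC hL c (wL_lt hC hLr hs)
    rw [wL_neg_simple hC hL hs] at hη
    exact ⟨xg hC (wL D L.reverse s) (η⁻¹ * t),
      ⟨_, _, wL_lt hC hLr hs, (h _ (wL_lt hC hLr hs)).2 (by rwa [wL_neg_simple hC hL hs]), rfl⟩,
      by rw [hη, mul_inv_cancel_left₀ hη0]⟩

/-- A word making every positive root negative. -/
def IsLongest (D : ChevalleyDatum) (T : Tab) (L : List ℕ) : Prop :=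
  (∀ i ∈ L, i < D.rank) ∧ ∀ r < D.nroots, 0 < T.phi r → T.phi (wL D L r) < 0

theorem longest_sign {L : List ℕ} (hL : IsLongest D T L) {r : ℕ} (hr : r < D.nroots) :
    (0 < T.phi r ↔ T.phi (wL D L r) < 0) ∧ (T.phi r < 0 ↔ 0 < T.phi (wL D L r)) := by
  have h1 := hC.phi_ne_zero hr
  have h2 := hC.phi_ne_zero (wL_lt hC hL.1 hr)
  have key : T.phi r < 0 → 0 < T.phi (wL D L r) := fun h => by
    have := hL.2 _ (hC.neg_lt hr) (by rw [hC.phi_neg hr]; omega)
    rw [wL_neg hC hL.1 hr, hC.phi_neg (wL_lt hC hL.1 hr)] at this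
    omega
  refine ⟨⟨hL.2 r hr, fun h => ?_⟩, ⟨key, fun h => ?_⟩⟩
  · by_contra hn
    have := key (by omega)
    omega
  · by_contra hn
    have := hL.2 r hr (by omega)
    omega

theorem longest_map_U {L : List ℕ} (hL : IsLongest D T L) (c : ℕ → Fˣ) :
    (D.posUnipotent F).map (MulAut.conj (tor D c * nL hC F L)).toMonoidHom = D.negUnipotent F := by
  rw [U_eq_closure hC, V_eq_closure hC]
  exact map_conj_closure hC hL.1 c fun r hr => (longest_sign hC hL hr).1

theorem longest_map_V {L : List ℕ} (hL : IsLongest D T L) (c : ℕ → Fˣ) :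
    (D.negUnipotent F).map (MulAut.conj (tor D c * nL hC F L)).toMonoidHom = D.posUnipotent F := by
  rw [U_eq_closure hC, V_eq_closure hC]
  exact map_conj_closure hC hL.1 c fun r hr => (longest_sign hC hL hr).2

theorem longest_map_g {L : List ℕ} (hL : IsLongest D T L) :
    (Ug D F).map (MulAut.conj (gnL hC F L)).toMonoidHom = Vg D F ∧
      (Vg D F).map (MulAut.conj (gnL hC F L)).toMonoidHom = Ug D F := by
  have e : (gnL hC F L : GL D.Idx F) = tor D (1 : ℕ → Fˣ) * nL hC F L := by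
    rw [coe_gnL, tor_one, one_mul]
  exact ⟨map_subgroupOf _ (U_le_group hC) (by rw [e]; exact longest_map_U hC hL 1),
    map_subgroupOf _ (V_le_group hC) (by rw [e]; exact longest_map_V hC hL 1)⟩

/-! ### The normalisers -/

variable {N : List (List ℤ)} (hN : coefChk T N = true)

theorem not_inRootSub_empty {r : ℕ} (h : D.InRootSub (∅ : Set ℕ) r) : False := by
  have h1 : pair D r r = 0 := Finset.sum_eq_zero fun j hj => by
    rw [show cor D r j = 0 from h.2 j (Finset.mem_range.1 hj) (Set.notMem_empty j), zero_mul]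
  rw [pair_self hC r h.1] at h1
  exact absurd h1 (by decide)

include hN in
theorem normalizer_U : Subgroup.normalizer (Ug D F : Set (D.group F)) = Bg D F := by
  have h1 : D.unipotentRadical F (∅ : Set ℕ) = D.posUnipotent F := by
    refine le_antisymm (Subgroup.closure_mono fun g ⟨r, t, hr, _, hg⟩ => ⟨r, t, hr, hg⟩) ?_
    exact Subgroup.closure_mono fun g ⟨r, t, hr, hg⟩ =>
      ⟨r, t, hr, fun h => not_inRootSub_empty hC h, hg⟩
  have h2 : D.parabolicSubgroup F (∅ : Set ℕ) = D.borelSubgroup F := by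
    refine le_antisymm (sup_le le_rfl ((Subgroup.closure_le _).2 ?_)) le_sup_left
    rintro g ⟨j, hj, -⟩
    exact absurd hj (Set.notMem_empty j)
  have h := Parabolic.normalizer_eq (F := F) hC hN (∅ : Set ℕ) (by simp)
  rw [h1, h2] at h
  ext g
  rw [Subgroup.mem_subgroupOf, ← h, Subgroup.mem_inf]
  have hg := g.2
  simp only [Subgroup.mem_normalizer_iff, SetLike.mem_coe, Subgroup.mem_subgroupOf, Subgroup.coe_mul,
    Subgroup.coe_inv]
  constructor
  · intro hh
    refine ⟨fun x => ⟨fun hx => (hh ⟨x, U_le_group hC hx⟩).1 hx, fun hx => ?_⟩, hg⟩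
    have hxG : x ∈ D.group F := by
      have := mul_mem (mul_mem (inv_mem hg) (U_le_group hC hx)) hg
      simpa [mul_assoc] using this
    exact (hh ⟨x, hxG⟩).2 hx
  · exact fun hh x => hh.1 (x : GL D.Idx F)

omit hC in
theorem map_normalizer {G G' : Type*} [Group G] [Group G'] (e : G ≃* G') {A : Subgroup G}
    {A' : Subgroup G'} (h : A.map e.toMonoidHom = A') :
    (Subgroup.normalizer (A : Set G)).map e.toMonoidHom = Subgroup.normalizer (A' : Set G') := by
  subst h
  ext x
  obtain ⟨y, rfl⟩ := e.surjective x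
  rw [Subgroup.mem_map_equiv, e.symm_apply_apply]
  simp only [Subgroup.mem_normalizer_iff, SetLike.mem_coe]
  constructor
  · intro hy z
    obtain ⟨w, rfl⟩ := e.surjective z
    rw [← map_inv, ← map_mul, ← map_mul, Subgroup.mem_map_equiv, e.symm_apply_apply,
      Subgroup.mem_map_equiv, e.symm_apply_apply]
    exact hy w
  · intro hy z
    have := hy (e z)
    rwa [← map_inv, ← map_mul, ← map_mul, Subgroup.mem_map_equiv, e.symm_apply_apply,
      Subgroup.mem_map_equiv, e.symm_apply_apply] at this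

include hN in
/-- The intersection of the normalisers of `U` and `V` is the torus. -/
theorem normalizer_inf :
    Subgroup.normalizer (Ug D F : Set (D.group F)) ⊓ Subgroup.normalizer (Vg D F : Set (D.group F)) =
      Hg D F := by
  obtain ⟨L, hL, hneg⟩ := exists_longest hC
  have hn := (longest_map_g (F := F) hC ⟨hL, hneg⟩).1
  have hNV := map_normalizer (MulAut.conj (gnL hC F L)) hn
  rw [normalizer_U hC hN] at hNV
  rw [normalizer_U hC hN, ← hNV]
  refine le_antisymm ?_ ?_
  · rintro g ⟨hgB, b, hb, rfl⟩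
    rw [Subgroup.mem_subgroupOf, ← B_inf_VH (F := F) hC]
    refine ⟨hgB, ?_⟩
    show (gnL hC F L : GL D.Idx F) * (b : GL D.Idx F) * (gnL hC F L : GL D.Idx F)⁻¹ ∈
      D.negUnipotent F ⊔ D.diagonalSubgroup F
    obtain ⟨u, hu, h, hh, e⟩ := (mem_B_iff hC).1 (Subgroup.mem_subgroupOf.1 hb)
    rw [e, coe_gnL, show nL hC F L * (u * h) * (nL hC F L)⁻¹ =
      (nL hC F L * u * (nL hC F L)⁻¹) * (nL hC F L * h * (nL hC F L)⁻¹) by group]
    refine mul_mem (Subgroup.mem_sup_left ?_) (Subgroup.mem_sup_right (H_conj hC (nL_mem_N hC hL) hh))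
    have := longest_map_U (F := F) hC ⟨hL, hneg⟩ 1
    rw [tor_one, one_mul] at this
    rw [← this]
    exact ⟨u, hu, rfl⟩
  · intro g hg
    rw [Subgroup.mem_subgroupOf] at hg
    refine ⟨Subgroup.mem_subgroupOf.2 (Subgroup.mem_sup_right hg), ?_⟩
    refine ⟨(gnL hC F L)⁻¹ * g * gnL hC F L, ?_, by simp [mul_assoc]⟩
    refine Subgroup.mem_subgroupOf.2 (Subgroup.mem_sup_right ?_)
    rw [Subgroup.coe_mul, Subgroup.coe_mul, Subgroup.coe_inv, coe_gnL]
    have := H_conj hC (inv_mem (nL_mem_N (F := F) hC hL)) hg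
    rwa [inv_inv] at this

/-! ### The first normalisation -/

/-- Every automorphism is inner up to one fixing `U` and `V`. -/
theorem exists_fix [Finite F] (p : ℕ) [Fact p.Prime] [CharP F p]
    (hD : D ∈ [chevG2, chevB2, chevD4, chevF4, chevE6, chevE7, chevE8])
    (θ : D.group F ≃* D.group F) :
    ∃ (x : D.group F) (θ' : D.group F ≃* D.group F), (∀ y, θ y = x * θ' y * x⁻¹) ∧
      (Ug D F).map θ'.toMonoidHom = Ug D F ∧ (Vg D F).map θ'.toMonoidHom = Vg D F := by
  classical
  haveI := Fintype.ofFinite F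
  obtain ⟨P, hP⟩ := SimpleFacts.ChevalleySylow.exists_sylow p D hD (F := F)
  have conjugate : ∀ A : Subgroup (D.group F), Nat.card A = Nat.card (Ug D F) →
      ∃ g : D.group F, A = (Ug D F).map (MulAut.conj g).toMonoidHom := by
    intro A hA
    have hc : Nat.card A = Nat.card (P : Subgroup (D.group F)) := by rw [hP]; exact hA
    let Q : Sylow p (D.group F) := Sylow.ofCard A (by rw [hc, P.card_eq_multiplicity])
    obtain ⟨g, hg⟩ := MulAction.exists_smul_eq (D.group F) P Q
    refine ⟨g, ?_⟩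
    have h1 : ((g • P : Sylow p (D.group F)) : Subgroup (D.group F)) = A := by
      rw [hg]; exact Sylow.coe_ofCard A _
    rw [← h1, Sylow.coe_subgroup_smul, hP, Subgroup.pointwise_smul_def]
    rfl
  have hcard : ∀ (e : D.group F ≃* D.group F) (A : Subgroup (D.group F)),
      Nat.card (A.map e.toMonoidHom) = Nat.card A := fun e A =>
    (Nat.card_congr (A.equivMapOfInjective e.toMonoidHom e.injective).toEquiv).symm
  -- the first conjugation
  obtain ⟨g₁, hg₁⟩ := conjugate _ (hcard θ (Ug D F))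
  let θ₁ : D.group F ≃* D.group F := θ.trans (MulAut.conj g₁⁻¹)
  have hU₁ : (Ug D F).map θ₁.toMonoidHom = Ug D F := by
    rw [show θ₁.toMonoidHom = (MulAut.conj g₁⁻¹).toMonoidHom.comp θ.toMonoidHom from rfl,
      ← Subgroup.map_map, hg₁, conj_map_trans, inv_mul_cancel, conj_map_one]
  -- the second
  obtain ⟨L, hLL, hneg⟩ := exists_longest hC
  have hVU := (longest_map_g (F := F) hC ⟨hLL, hneg⟩).2
  obtain ⟨g, hg⟩ := conjugate ((Vg D F).map θ₁.toMonoidHom) (by rw [hcard, ← hVU, hcard])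
  obtain ⟨b, hb, n, hn, u, hu, he⟩ := NormalForm.exists_form hC g.2
  obtain ⟨v, hv, h, hh, rfl⟩ := (mem_B_iff hC).1 hb
  have hnN : h * n ∈ D.monomialSubgroup F := mul_mem (Subgroup.mem_sup_left hh) hn
  obtain ⟨c, M, hM, hnM⟩ := (mem_N_iff hC).1 hnN
  have huU : u ∈ D.posUnipotent F := NormalForm.Uminus_le_U hC _ hu
  have hg' : (g : GL D.Idx F) = v * (tor D c * nL hC F M) * u := by rw [he, ← hnM]; group
  obtain ⟨v', rfl⟩ : ∃ v' : D.group F, (v' : GL D.Idx F) = v := ⟨⟨v, U_le_group hC hv⟩, rfl⟩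
  obtain ⟨u', rfl⟩ : ∃ u' : D.group F, (u' : GL D.Idx F) = u := ⟨⟨u, U_le_group hC huU⟩, rfl⟩
  have hgU : (Ug D F).map (MulAut.conj g).toMonoidHom =
      ((Ug D F).map (MulAut.conj (v'⁻¹ * g * u'⁻¹)).toMonoidHom).map (MulAut.conj v').toMonoidHom := by
    have hu' : (Ug D F).map (MulAut.conj u').toMonoidHom = Ug D F := by
      refine le_antisymm ?_ fun x hx => ⟨u'⁻¹ * x * u', ?_, by simp [mul_assoc]⟩
      · rintro _ ⟨x, hx, rfl⟩
        exact mul_mem (mul_mem (Subgroup.mem_subgroupOf.2 huU) hx)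
          (inv_mem (Subgroup.mem_subgroupOf.2 huU))
      · exact mul_mem (mul_mem (inv_mem (Subgroup.mem_subgroupOf.2 huU)) hx)
          (Subgroup.mem_subgroupOf.2 huU)
    conv_rhs => rw [← hu', conj_map_trans, conj_map_trans]
    congr 3
    group
  obtain ⟨m, hm⟩ : ∃ m, m = v'⁻¹ * g * u'⁻¹ := ⟨_, rfl⟩
  rw [← hm] at hgU
  have hmN : (m : GL D.Idx F) = tor D c * nL hC F M := by
    rw [hm, Subgroup.coe_mul, Subgroup.coe_mul, Subgroup.coe_inv, Subgroup.coe_inv, hg']
    group
  have hUv : (Ug D F).map (MulAut.conj v'⁻¹).toMonoidHom = Ug D F := by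
    refine le_antisymm ?_ fun x hx => ⟨v' * x * v'⁻¹, ?_, by simp [mul_assoc]⟩
    · rintro _ ⟨x, hx, rfl⟩
      have hv1 : v'⁻¹ ∈ Ug D F := inv_mem (Subgroup.mem_subgroupOf.2 hv)
      exact mul_mem (mul_mem hv1 hx) (inv_mem hv1)
    · exact mul_mem (mul_mem (Subgroup.mem_subgroupOf.2 hv) hx)
        (inv_mem (Subgroup.mem_subgroupOf.2 hv))
  let θ₂ : D.group F ≃* D.group F := θ₁.trans (MulAut.conj v'⁻¹)
  have hU₂ : (Ug D F).map θ₂.toMonoidHom = Ug D F := by
    rw [show θ₂.toMonoidHom = (MulAut.conj v'⁻¹).toMonoidHom.comp θ₁.toMonoidHom from rfl,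
      ← Subgroup.map_map, hU₁, hUv]
  have hV₂ : (Vg D F).map θ₂.toMonoidHom = (Ug D F).map (MulAut.conj m).toMonoidHom := by
    rw [show θ₂.toMonoidHom = (MulAut.conj v'⁻¹).toMonoidHom.comp θ₁.toMonoidHom from rfl,
      ← Subgroup.map_map, hg, hgU, conj_map_trans, inv_mul_cancel, conj_map_one]
  have hlong : IsLongest D T M := by
    refine ⟨hM, fun r hr hp => ?_⟩
    by_contra hcon
    have hwr := wL_lt hC hM hr
    have hpos : 0 < T.phi (wL D M r) := by have := hC.phi_ne_zero hwr; omega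
    obtain ⟨η, hη, e⟩ := NormalForm.conj_xg (F := F) hC hM c hr
    have hmem : gx hC (wL D M r) (η * 1) ∈ (Vg D F).map θ₂.toMonoidHom := by
      rw [hV₂]
      refine ⟨gx hC r 1, gx_mem_U hC hr hp 1, Subtype.ext ?_⟩
      simp only [MulEquiv.coe_toMonoidHom, MulAut.conj_apply, Subgroup.coe_mul, Subgroup.coe_inv,
        coe_gx, hmN]
      exact e 1
    obtain ⟨y, hy, hy'⟩ := hmem
    have hyU : y ∈ Ug D F := by
      have : θ₂ y ∈ (Ug D F).map θ₂.toMonoidHom := by
        rw [hU₂, show θ₂ y = gx hC (wL D M r) (η * 1) from hy']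
        exact gx_mem_U hC hwr hpos _
      obtain ⟨z, hz, hzy⟩ := this
      rwa [θ₂.injective hzy] at hz
    have h1 := U_inf_V_g hC hyU hy
    rw [h1, map_one, ← gx_zero hC (wL D M r)] at hy'
    exact mul_ne_zero hη one_ne_zero (gx_injective hC hwr hy').symm
  refine ⟨g₁ * v', θ₂, fun y => ?_, hU₂, ?_⟩
  · simp only [θ₂, θ₁, MulEquiv.trans_apply, MulAut.conj_apply]
    group
  · rw [hV₂]
    exact map_subgroupOf m (U_le_group hC) (by rw [hmN]; exact longest_map_U hC hlong c)

end Cfsg.Agent.Chevalley.AutThm
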