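import Cfsg.Agent.Lib.Chevalley.Aut.Param
import Cfsg.Agent.Lib.Chevalley.Aut.Cases
import Cfsg.Agent.SimpleFacts.ChevalleyGen

/-!
Every automorphism of a Chevalley group over a finite field is an inner, a diagonal, a graph and a
field automorphism composed; the last three are determined up to the torus.
-/

set_option autoImplicit false

open scoped Matrix Pointwise

namespace Cfsg.Agent.Chevalley.AutThm

open Cfsg.Lie Cfsg.Agent.Chevalley.Table Cfsg.Agent.Chevalley.Check
  Cfsg.Agent.Chevalley.Cert Cfsg.Agent.Chevalley.Relations Cfsg.Agent.Chevalley.Group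
  Cfsg.Agent.Chevalley.Weight Cfsg.Agent.Chevalley.Unip Cfsg.Agent.Chevalley.Borel
  Cfsg.Agent.Chevalley.Weyl Cfsg.Agent.Chevalley.Bruhat

variable {D : ChevalleyDatum} {F : Type*} [Field F] {T : Tab} {N : List (List ℤ)}

/-- An automorphism acts on the fundamental root elements through `π` and parameter maps. -/
def Frame (hC : Certified D T) (θ : D.group F ≃* D.group F) (π : Equiv.Perm (Fin D.rank))
    (a : Fin D.rank → F → F) : Prop :=
  ∀ (i : Fin D.rank) (t : F), θ (gx hC (D.simple i) t) = gx hC (D.simple (π i)) (a i t) ∧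
    θ (gx hC (D.neg (D.simple i)) t) = gx hC (D.neg (D.simple (π i))) (a i t)

variable (hC : Certified D T)
include hC

theorem fieldAut_gx (σ : F ≃+* F) (r : ℕ) (t : F) :
    FieldAut.groupAut D σ (gx hC r t) = gx hC r (σ t) :=
  Subtype.ext (Units.ext (FieldAut.x_map σ.toRingHom r t))

theorem fieldAut_isFieldAut (σ : F ≃+* F) : D.IsFieldAut (FieldAut.groupAut D σ) :=
  ⟨σ, fun g r t _ hg => by
    rw [show g = gx hC r t from Subtype.ext (Units.ext hg), fieldAut_gx hC]
    rfl⟩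

theorem frame_gn {θ : D.group F ≃* D.group F} {π : Equiv.Perm (Fin D.rank)}
    {σ : Fin D.rank → F ≃+* F} (hθ : Frame hC θ π fun i => σ i) (i : Fin D.rank) (t : F) :
    θ (gn hC (D.simple i) t) = gn hC (D.simple (π i)) (σ i t) := by
  simp only [gn, map_mul, (hθ i _).1, (hθ i _).2, map_neg, map_inv₀]

theorem frame_gn_one {θ : D.group F ≃* D.group F} {π : Equiv.Perm (Fin D.rank)}
    {a : Fin D.rank → F → F} (hθ : Frame hC θ π a) (ha : ∀ i, a i 1 = 1 ∧ a i (-1) = -1)
    (i : Fin D.rank) : θ (gn hC (D.simple i) 1) = gn hC (D.simple (π i)) 1 := by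
  simp only [gn, inv_one, map_mul, (hθ i _).1, (hθ i _).2, (ha i).1, (ha i).2]

theorem frame_gnL {θ : D.group F ≃* D.group F} {π : Equiv.Perm (Fin D.rank)}
    (hn : ∀ i : Fin D.rank, θ (gn hC (D.simple i) 1) = gn hC (D.simple (π i)) 1) {L : List ℕ}
    (hL : ∀ i ∈ L, i < D.rank) : θ (gnL hC F L) = gnL hC F (L.map (piN π)) := by
  induction L with
  | nil => simp [gnL]
  | cons i L ih =>
    have := ih fun j hj => hL j (List.mem_cons_of_mem i hj)
    simp only [gnL, List.map_cons, List.prod_cons, map_mul] at this ⊢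
    rw [this, hn ⟨i, hL i List.mem_cons_self⟩, ← piN_eq π ⟨i, hL i List.mem_cons_self⟩]

theorem Xg_map_eq [Finite F] (θ : D.group F ≃* D.group F) {r s : ℕ} (hr : r < D.nroots)
    (hs : s < D.nroots) (h : ∀ t : F, θ (gx hC r t) ∈ Xg hC F s) :
    (Xg hC F r).map θ.toMonoidHom = Xg hC F s := by
  refine Subgroup.eq_of_le_of_card_ge ?_ ?_
  · rintro _ ⟨_, ⟨t, rfl⟩, rfl⟩
    exact h t
  · rw [card_Xg hC hs, ← card_Xg hC hr]
    exact (Nat.card_congr ((Xg hC F r).equivMapOfInjective θ.toMonoidHom θ.injective).toEquiv).le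

theorem gn_conj_gx {i r : ℕ} (hi : i < D.rank) (hr : r < D.nroots) :
    ∃ η : F, η ≠ 0 ∧ ∀ t, gn hC (D.simple i) 1 * gx hC r t * (gn hC (D.simple i) (1 : F))⁻¹ =
      gx hC (D.reflectRoot i r) (η * t) := by
  obtain ⟨η, hη, he⟩ := eta_field (F := F) (i := i) (r := r) hC
  exact ⟨η, hη, fun t => Subtype.ext (by
    simp only [Subgroup.coe_mul, Subgroup.coe_inv, coe_gx, coe_gn, ng_conj_x hC hi hr, he])⟩

/-- A frame automorphism preserves the sign of every root subgroup. -/
theorem frame_roots [Finite F] {θ : D.group F ≃* D.group F} {π : Equiv.Perm (Fin D.rank)}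
    {a : Fin D.rank → F → F} (hθ : Frame hC θ π a)
    (hn : ∀ i : Fin D.rank, θ (gn hC (D.simple i) 1) = gn hC (D.simple (π i)) 1) :
    ∀ r < D.nroots, 0 < T.phi r → ∃ r', r' < D.nroots ∧ 0 < T.phi r' ∧
      (∀ t : F, θ (gx hC r t) ∈ Xg hC F r') ∧
      ∀ t : F, θ (gx hC (D.neg r) t) ∈ Xg hC F (D.neg r') := by
  intro r
  induction r using Nat.strong_induction_on with
  | _ r ih =>
    intro hr hp
    obtain ⟨i, hi, h | ⟨-, hne, hp', hlt⟩⟩ := descend hC hr hp
    · subst h
      exact ⟨_, hC.simple_lt (π ⟨i, hi⟩).2, hC.phi_simple (π ⟨i, hi⟩).2,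
        fun t => ⟨_, (hθ ⟨i, hi⟩ t).1.symm⟩, fun t => ⟨_, (hθ ⟨i, hi⟩ t).2.symm⟩⟩
    have hs := hC.reflect_lt hi hr
    obtain ⟨s', hs', hsp, h1, h2⟩ := ih _ hlt hs hp'
    have hπi := (π ⟨i, hi⟩).2
    have hne' : s' ≠ D.simple (π ⟨i, hi⟩) := by
      intro e
      subst e
      have e1 := Xg_map_eq hC θ hs (hC.simple_lt hπi) h1
      have e2 := Xg_map_eq hC θ (hC.simple_lt hi) (hC.simple_lt hπi)
        fun t => ⟨_, (hθ ⟨i, hi⟩ t).1.symm⟩
      have h3 := Xg_inj hC hs (hC.simple_lt hi)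
        (Subgroup.map_injective (f := θ.toMonoidHom) θ.injective (e1.trans e2.symm))
      have h4 := hC.reflect_reflect hi hr
      rw [h3, hC.reflect_simple hi] at h4
      rw [← h4, hC.phi_neg (hC.simple_lt hi)] at hp
      have := hC.phi_simple hi
      omega
    have step : ∀ q q', q < D.nroots → q' < D.nroots → (∀ t : F, θ (gx hC q t) ∈ Xg hC F q') →
        ∀ t : F, θ (gx hC (D.reflectRoot i q) t) ∈ Xg hC F (D.reflectRoot (π ⟨i, hi⟩) q') := by
      intro q q' hq hq' h t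
      obtain ⟨η, hη, e⟩ := gn_conj_gx (F := F) hC hi hq
      obtain ⟨η', hη', e'⟩ := gn_conj_gx (F := F) hC hπi hq'
      obtain ⟨u, hu⟩ := h (η⁻¹ * t)
      refine ⟨η' * u, ?_⟩
      rw [← e', hu, ← hn ⟨i, hi⟩, ← map_inv, ← map_mul, ← map_mul, e, mul_inv_cancel_left₀ hη]
    refine ⟨D.reflectRoot (π ⟨i, hi⟩) s', hC.reflect_lt hπi hs', hC.reflect_pos hπi hs' hne' hsp,
      fun t => ?_, fun t => ?_⟩
    · have := step _ _ hs hs' h1 t
      rwa [hC.reflect_reflect hi hr] at this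
    · have := step _ _ (hC.neg_lt hs) (hC.neg_lt hs') h2 t
      rwa [hC.reflect_neg hi hs, hC.reflect_reflect hi hr, hC.reflect_neg hπi hs'] at this

omit hC in
theorem map_eq_of_le {G : Type*} [Group G] [Finite G] (θ : G ≃* G) {A : Subgroup G}
    (h : A.map θ.toMonoidHom ≤ A) : A.map θ.toMonoidHom = A :=
  Subgroup.eq_of_le_of_card_ge h (Nat.card_congr
    (A.equivMapOfInjective θ.toMonoidHom θ.injective).toEquiv).le

/-- A subgroup defined by a sign is stable when the root subgroups keep their signs. -/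
theorem map_UV [Finite F] (θ : D.group F ≃* D.group F)
    (h : ∀ r < D.nroots, 0 < T.phi r → ∃ r', r' < D.nroots ∧ 0 < T.phi r' ∧
      (∀ t : F, θ (gx hC r t) ∈ Xg hC F r') ∧
      ∀ t : F, θ (gx hC (D.neg r) t) ∈ Xg hC F (D.neg r')) :
    (Ug D F).map θ.toMonoidHom = Ug D F ∧ (Vg D F).map θ.toMonoidHom = Vg D F := by
  have key : ∀ (A : Subgroup (D.group F)) (W : Subgroup (GL D.Idx F)) (P : ℕ → Prop),
      W ≤ D.group F → A = W.subgroupOf (D.group F) →
      W = Subgroup.closure {g : GL D.Idx F | ∃ (r : ℕ) (t : F), r < D.nroots ∧ P r ∧ g = xg hC r t} →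
      (∀ r < D.nroots, P r → ∀ t, θ (gx hC r t) ∈ A) → A.map θ.toMonoidHom = A := by
    intro A W P hW hA hWc hP
    refine map_eq_of_le θ ?_
    rintro _ ⟨g, hg, rfl⟩
    have : (g : GL D.Idx F) ∈ W := by rw [hA] at hg; exact hg
    obtain ⟨K, hK⟩ : ∃ K, K = (A.comap θ.toMonoidHom).map (D.group F).subtype := ⟨_, rfl⟩
    have hle : W ≤ K := by
      rw [hWc, Subgroup.closure_le]
      rintro _ ⟨r, t, hr, hp, rfl⟩
      rw [hK]
      exact ⟨gx hC r t, hP r hr hp t, rfl⟩
    have h' := hle this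
    rw [hK] at h'
    obtain ⟨g', hg', e⟩ := h'
    obtain rfl : g' = g := Subtype.ext e
    exact hg'
  constructor
  · refine key _ _ _ (U_le_group hC) rfl (U_eq_closure hC) fun r hr hp t => ?_
    obtain ⟨r', hr', hp', h1, -⟩ := h r hr hp
    obtain ⟨u, hu⟩ := h1 t
    rw [← hu]
    exact gx_mem_U hC hr' hp' u
  · refine key _ _ _ (V_le_group hC) rfl (V_eq_closure hC) fun r hr hp t => ?_
    obtain ⟨r', hr', hp', -, h2⟩ := h (D.neg r) (hC.neg_lt hr) (by rw [hC.phi_neg hr]; omega)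
    obtain ⟨u, hu⟩ := h2 t
    rw [hC.neg_neg hr] at hu
    rw [← hu]
    exact gx_mem_V hC (hC.neg_lt hr') (by rw [hC.phi_neg hr']; omega) u

theorem normalises_iff {i j : ℕ} (hi : i < D.rank) (hj : j < D.rank) :
    (gn hC (D.simple i) (1 : F) * gx hC (D.simple j) 1 * (gn hC (D.simple i) (1 : F))⁻¹ ∈
      Xg hC F (D.simple j)) ↔ D.cartan i (D.simple j) = 0 := by
  have hsj := hC.simple_lt hj
  obtain ⟨η, hη, e⟩ := gn_conj_gx (F := F) hC hi hsj
  rw [e]
  have hphi := hC.phi_reflect hi hsj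
  constructor
  · rintro ⟨t, ht⟩
    have hr := hC.reflect_lt hi hsj
    have h1 : D.reflectRoot i (D.simple j) = D.simple j :=
      xg_eq_xg hC hr hsj (mul_ne_zero hη one_ne_zero) (congrArg Subtype.val ht).symm
    rw [h1] at hphi
    have h2 : D.cartan i (D.simple j) * T.phi (D.simple i) = 0 := by omega
    exact (mul_eq_zero.1 h2).resolve_right (hC.phi_simple hi).ne'
  · intro h0
    rw [h0, zero_mul, sub_zero] at hphi
    have hr := hC.reflect_lt hi hsj
    have h1 : D.reflectRoot i (D.simple j) = D.simple j := by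
      rcases Nat.lt_trichotomy (D.reflectRoot i (D.simple j)) (D.simple j) with h | h | h
      · have := (hC.phi_lt_iff hr hsj).2 h
        omega
      · exact h
      · have := (hC.phi_lt_iff hsj hr).2 h
        omega
    rw [h1]
    exact ⟨_, rfl⟩

/-- The torus element `h_i(t)` acts on `x_j` through the Cartan integer. -/
theorem gh_conj {i j : ℕ} (hi : i < D.rank) (hj : j < D.nroots) {t : F} (ht : t ≠ 0) (u : F) :
    gn hC (D.simple i) t * gn hC (D.simple i) (-1) * gx hC j u *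
        (gn hC (D.simple i) t * gn hC (D.simple i) (-1))⁻¹ =
      gx hC j (t ^ D.cartan i j * u) := by
  refine Subtype.ext ?_
  simp only [Subgroup.coe_mul, Subgroup.coe_inv, coe_gx, coe_gn]
  show hg hC (D.simple i) t * xg hC j u * (hg hC (D.simple i) t)⁻¹ = _
  rw [show t = ((Units.mk0 t ht : Fˣ) : F) from rfl, hg_eq_tor hC (hC.simple_lt hi),
    tor_conj_x hC _ _ _ hj, Perfect.torChar_pow hC, pair_simple hC hi, Units.val_zpow_eq_zpow_val]

omit hC
variable (S : Setup D T N)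
include S

theorem frame_adjPres {θ : D.group F ≃* D.group F} {π : Equiv.Perm (Fin D.rank)}
    {σ : Fin D.rank → F ≃+* F} (hθ : Frame S.cert θ π fun i => σ i) : AdjPres π := by
  intro i j _
  rw [← normalises_iff (F := F) S.cert i.2 j.2, ← normalises_iff (F := F) S.cert (π i).2 (π j).2,
    show gn S.cert (D.simple (π i)) (1 : F) * gx S.cert (D.simple (π j)) 1 *
        (gn S.cert (D.simple (π i)) (1 : F))⁻¹ =
      θ (gn S.cert (D.simple i) (1 : F) * gx S.cert (D.simple j) 1 *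
        (gn S.cert (D.simple i) (1 : F))⁻¹) by
      rw [map_mul, map_mul, map_inv, frame_gn S.cert hθ, (hθ j 1).1]
      simp only [map_one]]
  constructor
  · rintro ⟨t, ht⟩
    refine ⟨(σ j).symm t, θ.injective ?_⟩
    rw [(hθ j _).1, ← ht]
    simp only [RingEquiv.apply_symm_apply]
  · rintro ⟨t, ht⟩
    exact ⟨σ j t, by rw [← ht, (hθ j t).1]⟩

theorem frame_not_excl {θ : D.group F ≃* D.group F} {π : Equiv.Perm (Fin D.rank)}
    {σ : Fin D.rank → F ≃+* F} (hθ : Frame S.cert θ π fun i => σ i) : ¬ Excl D F π := by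
  rintro ⟨i, L, hL, h1, h2, h3, h4, hnil, c, hc, hcF⟩
  have hC := S.cert
  have hsi := hC.simple_lt i.2
  have hsi' := hC.simple_lt (π i).2
  have hL' : ∀ j ∈ L.map (piN π), j < D.rank := fun j hj => by
    obtain ⟨k, hk, rfl⟩ := List.mem_map.1 hj
    exact piN_lt π (hL k hk)
  obtain ⟨η, hη, e⟩ := nL_conj_x (F := F) hC hL hsi
  obtain ⟨η', hη', e'⟩ := nL_conj_x (F := F) hC hL' hsi'
  have hcomm : Commute (gx hC (D.simple i) (1 : F))
      (gnL hC F L * gx hC (D.simple i) 1 * (gnL hC F L)⁻¹) := by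
    refine Subtype.ext ?_
    simp only [Subgroup.coe_mul, Subgroup.coe_inv, coe_gx, coe_gnL, e]
    rw [xg_comm hC hsi (wL_lt hC hL hsi) h1 h2, ChevalleyDatum.commWord, hnil]
    simp
  have h := hcomm.map θ.toMonoidHom
  simp only [MulEquiv.coe_toMonoidHom, map_mul, map_inv, (hθ i 1).1, map_one,
    frame_gnL hC (fun k => (frame_gn hC hθ k 1).trans (by rw [map_one])) hL] at h
  have h' := congrArg Subtype.val h.eq
  simp only [Subgroup.coe_mul, Subgroup.coe_inv, coe_gx, coe_gnL, e'] at h'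
  rw [xg_comm hC hsi' (wL_lt hC hL' hsi') h3 h4, ChevalleyDatum.commWord, hc] at h'
  simp only [List.map_cons, List.map_nil, List.prod_cons, List.prod_nil, mul_one] at h'
  have h5 := mul_eq_left.1 h'.symm
  rw [← xg_zero hC c.1] at h5
  have h6 := xg_injective hC (commTerms_lt hC hsi' (wL_lt hC hL' hsi') c
    (hc.symm ▸ List.mem_cons_self)) h5
  simp [hη'] at h6
  exact hcF h6

/-- The diagonal automorphism with given values on the fundamental roots. -/
theorem exists_diag_simple (c : Fin D.rank → Fˣ) :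
    ∃ (χ : ℕ → Fˣ) (d : D.group F ≃* D.group F), D.IsRootCharacter χ ∧
      (∀ i : Fin D.rank, χ (D.simple i) = c i) ∧ D.IsDiagonalAut d ∧
      ∀ r t, r < D.nroots → d (gx S.cert r t) = gx S.cert r ((χ r : F) * t) := by
  have hχ := charOf_isRootCharacter (F := F) S.cert S.int c
  obtain ⟨d, hd, hdx⟩ := exists_diag S.cert hχ S.cons
  exact ⟨_, d, hχ, charOf_simple S.cert S.coef S.int c, hd, hdx⟩

theorem sigma_eq [Finite F] {ψ : D.group F ≃* D.group F} {σ : Fin D.rank → F ≃+* F}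
    (hψ : Frame S.cert ψ 1 fun i => σ i) : ∀ i j : Fin D.rank, σ i = σ j := by
  have hC := S.cert
  have hadj : ∀ i j : Fin D.rank, D.cartan i (D.simple j) = -1 → σ i = σ j := by
    intro i j hA
    refine RingEquiv.ext fun t => ?_
    by_cases ht : t = 0
    · simp [ht]
    have h := congrArg ψ (gh_conj hC i.2 (hC.simple_lt j.2) ht (1 : F))
    simp only [map_mul, map_inv, frame_gn hC hψ, (hψ j _).1, map_neg, map_one, Equiv.Perm.coe_one,
      id_eq, hA, mul_one, zpow_neg_one] at h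
    rw [gh_conj hC i.2 (hC.simple_lt j.2) (by simpa using ht), hA, zpow_neg_one, mul_one] at h
    have := gx_injective hC (hC.simple_lt j.2) h
    rw [map_inv₀] at this
    exact inv_injective this
  have h0 : 0 < D.rank := by
    have := S.conn
    simp only [connChk, Bool.and_eq_true, decide_eq_true_eq] at this
    exact this.1
  have key : ∀ k, ∀ v ∈ reach D k, ∀ hv : v < D.rank, σ ⟨v, hv⟩ = σ ⟨0, h0⟩ := by
    intro k
    induction k with
    | zero =>
      intro v hv _
      rw [reach, List.mem_singleton] at hv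
      subst hv
      rfl
    | succ k ih =>
      intro v hv hvl
      simp only [reach, List.mem_filter, List.mem_range, Bool.or_eq_true, List.contains_iff_mem,
        List.any_eq_true, beq_iff_eq] at hv
      rcases hv.2 with h | ⟨u, hu, h | h⟩
      · exact ih v h hvl
      · have hul : u < D.rank := by
          cases k with
          | zero => rw [reach, List.mem_singleton] at hu; omega
          | succ k => rw [reach, List.mem_filter, List.mem_range] at hu; exact hu.1
        rw [← ih u hu hul]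
        exact (hadj ⟨u, hul⟩ ⟨v, hvl⟩ h).symm
      · have hul : u < D.rank := by
          cases k with
          | zero => rw [reach, List.mem_singleton] at hu; omega
          | succ k => rw [reach, List.mem_filter, List.mem_range] at hu; exact hu.1
        rw [← ih u hu hul]
        exact hadj ⟨v, hvl⟩ ⟨u, hul⟩ h
  have hall : ∀ i : Fin D.rank, σ i = σ ⟨0, h0⟩ := fun i => by
    have := S.conn
    simp only [connChk, Bool.and_eq_true, decide_eq_true_eq, List.all_eq_true, List.mem_range,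
      List.contains_iff_mem] at this
    exact key _ _ (this.2 i i.2) i.2
  exact fun i j => (hall i).trans (hall j).symm

/-- The decomposition. -/
theorem decompose [Finite F] (θ : D.group F ≃* D.group F) :
    ∃ (x : D.group F) (d g : D.group F ≃* D.group F) (π : Equiv.Perm (Fin D.rank)) (σ : F ≃+* F),
      D.IsDiagonalAut d ∧ D.IsDiagramSymmetry π ∧ IsGraphOf S.cert π g ∧
      ∀ y, θ y = x * d (g (FieldAut.groupAut D σ y)) * x⁻¹ := by
  have hC := S.cert
  haveI := ringChar.charP F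
  haveI : Fact (ringChar F).Prime := ⟨CharP.char_is_prime F _⟩
  obtain ⟨x, θ', hθ, hU, hV⟩ := exists_fix (F := F) hC (ringChar F) S.mem θ
  obtain ⟨π, hπ⟩ := exists_perm hC S.coef hU hV
  have hc : ∀ i : Fin D.rank, ∃ c : Fˣ,
      θ' (gx hC (D.simple i) 1) = gx hC (D.simple (π i)) (c : F) := fun i => by
    obtain ⟨t, ht⟩ : θ' (gx hC (D.simple i) 1) ∈ Xg hC F (D.simple (π i)) :=
      (hπ i).1 ▸ ⟨_, ⟨1, rfl⟩, rfl⟩
    refine ⟨Units.mk0 t fun h => ?_, ht.symm⟩
    rw [h, gx_zero hC, ← map_one θ'] at ht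
    exact one_ne_zero (gx_injective hC (hC.simple_lt i.2)
      ((θ'.injective ht.symm).trans (gx_zero hC _).symm))
  choose c hc using hc
  obtain ⟨χ, d, -, hχ, hd, hdx⟩ := exists_diag_simple S fun j => c (π.symm j)
  have hdsymm : ∀ r t, r < D.nroots →
      d.symm (gx hC r t) = gx hC r (((χ r)⁻¹ : Fˣ) * t) := fun r t hr => by
    rw [MulEquiv.symm_apply_eq, hdx r _ hr, Units.mul_inv_cancel_left]
  obtain ⟨θ'', hθ''⟩ : ∃ e, e = θ'.trans d.symm := ⟨_, rfl⟩
  have hσ : ∀ i : Fin D.rank, ∃ σ : F ≃+* F,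
      ∀ t, θ'' (gx hC (D.simple i) t) = gx hC (D.simple (π i)) (σ t) ∧
        θ'' (gx hC (D.neg (D.simple i)) t) = gx hC (D.neg (D.simple (π i))) (σ t) := fun i => by
    refine exists_field (F := F) hC i.2 (π i).2 ?_ ?_ ?_
    · refine Xg_map_eq hC θ'' (hC.simple_lt i.2) (hC.simple_lt (π i).2) fun t => ?_
      obtain ⟨u, hu⟩ : θ' (gx hC (D.simple i) t) ∈ Xg hC F (D.simple (π i)) :=
        (hπ i).1 ▸ ⟨_, ⟨t, rfl⟩, rfl⟩
      rw [hθ'', MulEquiv.trans_apply, ← hu, hdsymm _ _ (hC.simple_lt (π i).2)]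
      exact ⟨_, rfl⟩
    · refine Xg_map_eq hC θ'' (hC.neg_lt (hC.simple_lt i.2)) (hC.neg_lt (hC.simple_lt (π i).2))
        fun t => ?_
      obtain ⟨u, hu⟩ : θ' (gx hC (D.neg (D.simple i)) t) ∈ Xg hC F (D.neg (D.simple (π i))) :=
        (hπ i).2 ▸ ⟨_, ⟨t, rfl⟩, rfl⟩
      rw [hθ'', MulEquiv.trans_apply, ← hu, hdsymm _ _ (hC.neg_lt (hC.simple_lt (π i).2))]
      exact ⟨_, rfl⟩
    · rw [hθ'', MulEquiv.trans_apply, hc, hdsymm _ _ (hC.simple_lt (π i).2), hχ]
      simp
  choose σ hσ using hσ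
  have hframe : Frame hC θ'' π fun i => σ i := hσ
  obtain ⟨hsym, g, hg⟩ := ((graph_or_excl S (frame_adjPres S hframe)).resolve_right
    (frame_not_excl S hframe))
  obtain ⟨ψ, hψ⟩ : ∃ e, e = θ''.trans g.symm := ⟨_, rfl⟩
  have hgmap : ∀ i : Fin D.rank, ∀ t, g.symm (gx hC (D.simple (π i)) t) ∈ Xg hC F (D.simple i) ∧
      g.symm (gx hC (D.neg (D.simple (π i))) t) ∈ Xg hC F (D.neg (D.simple i)) := fun i t => by
    have h1 := Xg_map_eq hC g (hC.simple_lt i.2) (hC.simple_lt (π i).2)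
      fun t => ⟨_, (hg i t).1.symm⟩
    have h2 := Xg_map_eq hC g (hC.neg_lt (hC.simple_lt i.2)) (hC.neg_lt (hC.simple_lt (π i).2))
      fun t => ⟨_, (hg i t).2.symm⟩
    constructor
    · obtain ⟨y, hy, e⟩ : gx hC (D.simple (π i)) t ∈ (Xg hC F (D.simple i)).map g.toMonoidHom :=
        h1 ▸ ⟨t, rfl⟩
      rw [← e]
      simpa using hy
    · obtain ⟨y, hy, e⟩ :
          gx hC (D.neg (D.simple (π i))) t ∈ (Xg hC F (D.neg (D.simple i))).map g.toMonoidHom :=
        h2 ▸ ⟨t, rfl⟩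
      rw [← e]
      simpa using hy
  have hτ : ∀ i : Fin D.rank, ∃ τ : F ≃+* F,
      ∀ t, ψ (gx hC (D.simple i) t) = gx hC (D.simple i) (τ t) ∧
        ψ (gx hC (D.neg (D.simple i)) t) = gx hC (D.neg (D.simple i)) (τ t) := fun i => by
    refine exists_field (F := F) hC i.2 i.2 ?_ ?_ ?_
    · refine Xg_map_eq hC ψ (hC.simple_lt i.2) (hC.simple_lt i.2) fun t => ?_
      rw [hψ, MulEquiv.trans_apply, (hσ i t).1]
      exact (hgmap i _).1
    · refine Xg_map_eq hC ψ (hC.neg_lt (hC.simple_lt i.2)) (hC.neg_lt (hC.simple_lt i.2)) fun t => ?_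
      rw [hψ, MulEquiv.trans_apply, (hσ i t).2]
      exact (hgmap i _).2
    · rw [hψ, MulEquiv.trans_apply, (hσ i 1).1, map_one, MulEquiv.symm_apply_eq, (hg i 1).1, one_pow]
  choose τ hτ using hτ
  have hψframe : Frame hC ψ 1 fun i => τ i := hτ
  have hτeq := sigma_eq S hψframe
  have h0 : 0 < D.rank := by
    have := S.conn
    simp only [connChk, Bool.and_eq_true, decide_eq_true_eq] at this
    exact this.1
  have hfield : ψ.toMonoidHom = (FieldAut.groupAut D (τ ⟨0, h0⟩)).toMonoidHom := by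
    refine SimpleFacts.ChevalleyGen.hom_ext hC _ _ fun y i t hi hy => ?_
    rcases hy with hy | hy
    · rw [show y = gx hC (D.simple i) t from Subtype.ext (Units.ext hy)]
      show ψ _ = FieldAut.groupAut D _ _
      rw [fieldAut_gx hC, (hτ ⟨i, hi⟩ t).1, hτeq ⟨i, hi⟩ ⟨0, h0⟩]
    · rw [show y = gx hC (D.neg (D.simple i)) t from Subtype.ext (Units.ext hy)]
      show ψ _ = FieldAut.groupAut D _ _
      rw [fieldAut_gx hC, (hτ ⟨i, hi⟩ t).2, hτeq ⟨i, hi⟩ ⟨0, h0⟩]
  refine ⟨x, d, g, π, τ ⟨0, h0⟩, hd, hsym, hg, fun y => ?_⟩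
  rw [hθ y]
  congr 2
  have hy : ψ y = FieldAut.groupAut D (τ ⟨0, h0⟩) y := DFunLike.congr_fun hfield y
  rw [← hy, hψ, MulEquiv.trans_apply, MulEquiv.apply_symm_apply, hθ'', MulEquiv.trans_apply,
    MulEquiv.apply_symm_apply]

/-- Only torus conjugation is both inner and of the form `d ∘ θ` with `θ` a normalised frame map. -/
theorem inner_form [Finite F] {χ : ℕ → Fˣ} {d θ : D.group F ≃* D.group F}
    {π : Equiv.Perm (Fin D.rank)} {a : Fin D.rank → F → F} {x : D.group F}
    (hd : ∀ r t, r < D.nroots → d (gx S.cert r t) = gx S.cert r ((χ r : F) * t))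
    (hframe : Frame S.cert θ π a) (ha : ∀ i, a i 1 = 1 ∧ a i (-1) = -1)
    (h : ∀ y, d (θ y) = x * y * x⁻¹) :
    π = 1 ∧ (∀ i t, a i t = t) ∧ ∃ c : ℕ → Fˣ, (x : GL D.Idx F) = tor D c ∧
      ∀ i : Fin D.rank, χ (D.simple i) = torChar D c (D.simple i) := by
  classical
  have hC := S.cert
  obtain ⟨hU, hV⟩ := map_UV hC θ (frame_roots hC hframe (frame_gn_one hC hframe ha))
  obtain ⟨hdU, hdV⟩ := map_UV hC d fun r hr hp =>
    ⟨r, hr, hp, fun t => ⟨_, (hd r t hr).symm⟩, fun t => ⟨_, (hd _ t (hC.neg_lt hr)).symm⟩⟩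
  have hx : x ∈ Hg D F := by
    rw [← normalizer_inf hC S.coef]
    have key : ∀ A : Subgroup (D.group F), A.map θ.toMonoidHom = A → A.map d.toMonoidHom = A →
        x ∈ Subgroup.normalizer (A : Set (D.group F)) := by
      intro A h1 h2
      rw [Subgroup.mem_normalizer_iff]
      intro z
      rw [← h z]
      constructor
      · intro hz
        have h3 : θ z ∈ A := h1 ▸ ⟨z, hz, rfl⟩
        exact h2 ▸ ⟨θ z, h3, rfl⟩
      · intro hz
        rw [← h2] at hz
        obtain ⟨w, hw, hwe⟩ := hz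
        obtain rfl : w = θ z := d.injective hwe
        rw [← h1] at hw
        obtain ⟨v, hv, hve⟩ := hw
        rwa [← θ.injective hve]
    exact ⟨key _ hU hdU, key _ hV hdV⟩
  obtain ⟨c, hc⟩ := (mem_H_iff hC).1 (Subgroup.mem_subgroupOf.1 hx)
  have hmain : ∀ (i : Fin D.rank) (t : F), gx hC (D.simple (π i))
      ((χ (D.simple (π i)) : F) * a i t) =
      gx hC (D.simple i) ((torChar D c (D.simple i) : F) * t) := fun i t => by
    rw [← hd _ _ (hC.simple_lt (π i).2), ← (hframe i t).1, h]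
    refine Subtype.ext ?_
    simp only [Subgroup.coe_mul, Subgroup.coe_inv, coe_gx, hc]
    exact tor_conj_x hC c _ _ (hC.simple_lt i.2)
  have hπ : π = 1 := Equiv.ext fun i => by
    have h1 := congrArg Subtype.val (hmain i 1)
    simp only [coe_gx, (ha i).1, mul_one] at h1
    exact Fin.ext (hC.simple_inj (π i).2 i.2
      (xg_eq_xg hC (hC.simple_lt (π i).2) (hC.simple_lt i.2) (Units.ne_zero _) h1))
  subst hπ
  have hci : ∀ i : Fin D.rank, χ (D.simple i) = torChar D c (D.simple i) := fun i => by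
    have h1 := gx_injective hC (hC.simple_lt i.2) (hmain i 1)
    simp only [(ha i).1, mul_one, Equiv.Perm.coe_one, id_eq] at h1
    exact Units.ext h1
  refine ⟨rfl, fun i t => ?_, c, hc, hci⟩
  have h1 := gx_injective hC (hC.simple_lt i.2) (hmain i t)
  simp only [Equiv.Perm.coe_one, id_eq, hci i] at h1
  exact mul_left_cancel₀ (Units.ne_zero _) h1

end Cfsg.Agent.Chevalley.AutThm
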