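import Cfsg.Agent.Lib.Chevalley.Aut.Main
import Cfsg.Agent.Lib.Chevalley.TorusCard
import Cfsg.Agent.Lib.AutPSL.Out
import Cfsg.Prelude.Def_KGroupFacts

/-!
The outer automorphism group of a Chevalley group over a finite field.
-/

set_option autoImplicit false

open scoped Matrix

namespace Cfsg.Agent.Chevalley.AutThm

open Cfsg.Lie Cfsg.Agent.Chevalley.Table Cfsg.Agent.Chevalley.Cert Cfsg.Agent.Chevalley.Group
  Cfsg.Agent.Chevalley.TorusCard

variable {D : ChevalleyDatum} {F : Type*} [Field F] {T : Tab} {N : List (List ℤ)}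

/-- Automorphisms agreeing on the fundamental root elements and their negatives agree. -/
theorem aut_ext (hC : Certified D T) {f g : MulAut (D.group F)}
    (h : ∀ (i : Fin D.rank) (t : F), f (gx hC (D.simple i) t) = g (gx hC (D.simple i) t) ∧
      f (gx hC (D.neg (D.simple i)) t) = g (gx hC (D.neg (D.simple i)) t)) : f = g := by
  have h' : f.toMonoidHom = g.toMonoidHom := by
    refine SimpleFacts.ChevalleyGen.hom_ext hC _ _ fun y i t hi hy => ?_
    rcases hy with hy | hy
    · rw [show y = gx hC (D.simple i) t from Subtype.ext (Units.ext hy)]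
      exact (h ⟨i, hi⟩ t).1
    · rw [show y = gx hC (D.neg (D.simple i)) t from Subtype.ext (Units.ext hy)]
      exact (h ⟨i, hi⟩ t).2
  exact MulEquiv.ext fun y => DFunLike.congr_fun h' y

section Hom

variable (S : Setup D T N)

/-- The diagonal automorphism with given values on the fundamental roots. -/
noncomputable def dAut (c : Fin D.rank → Fˣ) : MulAut (D.group F) :=
  (exists_diag_simple S c).choose_spec.choose

theorem dAut_isDiag (c : Fin D.rank → Fˣ) : D.IsDiagonalAut (dAut S c) :=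
  (exists_diag_simple S c).choose_spec.choose_spec.2.2.1

theorem dAut_spec (c : Fin D.rank → Fˣ) (i : Fin D.rank) (t : F) :
    dAut S c (gx S.cert (D.simple i) t) = gx S.cert (D.simple i) ((c i : F) * t) ∧
      dAut S c (gx S.cert (D.neg (D.simple i)) t) =
        gx S.cert (D.neg (D.simple i)) (((c i)⁻¹ : Fˣ) * t) := by
  obtain ⟨hχ, hval, -, hd⟩ := (exists_diag_simple (F := F) S c).choose_spec.choose_spec
  have hsi := S.cert.simple_lt i.2
  refine ⟨?_, ?_⟩
  · rw [dAut, hd _ _ hsi, hval]
  · rw [dAut, hd _ _ (S.cert.neg_lt hsi), hχ.1 _ hsi, hval]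

/-- Diagonal automorphisms, as a homomorphism. -/
noncomputable def dHom (F : Type*) [Field F] : (Fin D.rank → Fˣ) →* MulAut (D.group F) where
  toFun := dAut S
  map_one' := aut_ext S.cert fun i t => by simp [dAut_spec S 1 i t]
  map_mul' c c' := aut_ext S.cert fun i t => by
    simp only [MulAut.mul_apply, (dAut_spec S (c * c') i t).1, (dAut_spec S (c * c') i t).2,
      (dAut_spec S c' i t).1, (dAut_spec S c' i t).2, (dAut_spec S c i _).1, (dAut_spec S c i _).2,
      Pi.mul_apply, mul_inv, Units.val_mul, mul_assoc]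
    exact ⟨trivial, trivial⟩

/-- Field automorphisms, as a homomorphism. -/
def fHom (hC : Certified D T) (F : Type*) [Field F] : (F ≃+* F) →* MulAut (D.group F) where
  toFun := FieldAut.groupAut D
  map_one' := aut_ext hC fun i t => by
    rw [fieldAut_gx hC, fieldAut_gx hC]; exact ⟨rfl, rfl⟩
  map_mul' σ τ := aut_ext hC fun i t => by
    simp only [MulAut.mul_apply, fieldAut_gx hC]
    exact ⟨rfl, rfl⟩

theorem fHom_apply (hC : Certified D T) (σ : F ≃+* F) (r : ℕ) (t : F) :
    fHom hC F σ (gx hC r t) = gx hC r (σ t) := fieldAut_gx hC σ r t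

theorem closure_diag :
    Subgroup.closure {φ : MulAut (D.group F) | D.IsDiagonalAut φ} = (dHom S F).range := by
  refine le_antisymm ((Subgroup.closure_le _).2 ?_) ?_
  · rintro φ ⟨χ, hχ, hφ⟩
    refine ⟨fun i => χ (D.simple i), aut_ext S.cert fun i t => ?_⟩
    have key : ∀ r, r < D.nroots → ∀ t : F,
        φ (gx S.cert r t) = gx S.cert r ((χ r : F) * t) := fun r hr t =>
      Subtype.ext (Units.ext ((hφ (gx S.cert r t)).trans
        (SimpleFacts.ChevalleyDiag.charDiag_conj_x S.cert S.cons hχ hr t)))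
    have hsi := S.cert.simple_lt i.2
    rw [key _ hsi, key _ (S.cert.neg_lt hsi), hχ.1 _ hsi]
    exact dAut_spec S (fun i => χ (D.simple i)) i t
  · rintro φ ⟨c, rfl⟩
    exact Subgroup.subset_closure (dAut_isDiag S c)

theorem closure_field (hC : Certified D T) :
    Subgroup.closure {φ : MulAut (D.group F) | D.IsFieldAut φ} = (fHom hC F).range := by
  refine le_antisymm ((Subgroup.closure_le _).2 ?_) ?_
  · rintro φ ⟨σ, hφ⟩
    refine ⟨σ, aut_ext hC fun i t => ?_⟩
    have hsi := hC.simple_lt i.2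
    rw [fHom_apply, fHom_apply]
    exact ⟨(Subtype.ext (Units.ext (hφ (gx hC (D.simple i) t) _ t hsi rfl))).symm,
      (Subtype.ext (Units.ext (hφ (gx hC _ t) _ t (hC.neg_lt hsi) rfl))).symm⟩
  · rintro φ ⟨σ, rfl⟩
    exact Subgroup.subset_closure (fieldAut_isFieldAut hC σ)

end Hom

theorem neg_one_pow_graphExp [Finite F] (i j : ℕ) :
    (-1 : F) ^ D.graphExp (ringChar F) i j = -1 := by
  rw [ChevalleyDatum.graphExp]
  split
  · have := ringChar.charP F
    have : Fact (ringChar F).Prime := ⟨CharP.char_is_prime F _⟩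
    rw [← frobenius_def, map_neg, map_one]
  · rw [pow_one]

/-- The nodes permutations realised by a graph automorphism. -/
abbrev Gam (S : Setup D T N) (F : Type*) [Field F] : Type _ :=
  {π : Equiv.Perm (Fin D.rank) // HasGraph S.cert F π}

/-- A graph automorphism for each such permutation. -/
noncomputable def gAut {S : Setup D T N} (π : Gam S F) : MulAut (D.group F) := π.2.2.choose

theorem gAut_spec {S : Setup D T N} (π : Gam S F) : IsGraphOf S.cert π.1 (gAut π) :=
  π.2.2.choose_spec

variable (S : Setup D T N)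

/-- The elementary divisor count: the cokernel of the torus inside all diagonal automorphisms. -/
abbrev torImage (S : Setup D T N) (F : Type*) [Field F] : Subgroup (Fin D.rank → Fˣ) :=
  (matHom (G := Fˣ) (cartanMat D)).range

include S

theorem mem_torImage (c : Fin D.rank → Fˣ) :
    c ∈ torImage S F ↔ ∃ e : ℕ → Fˣ, ∀ i : Fin D.rank, c i = torChar D e (D.simple i) := by
  constructor
  · rintro ⟨e, rfl⟩
    refine ⟨TorusCard.ext e, fun i => ?_⟩
    rw [torChar_ext]
    exact matHom_apply _ _ _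
  · rintro ⟨e, he⟩
    refine ⟨fun i => e i, funext fun j => ?_⟩
    rw [he j, matHom_apply, torChar, ← Fin.prod_univ_eq_prod_range fun i => e i ^ D.cartan i (D.simple j)]
    rfl

theorem dHom_mem_inn {c : Fin D.rank → Fˣ} (h : c ∈ torImage S F) :
    dHom S F c ∈ Cfsg.Inn (D.group F) := by
  obtain ⟨e, he⟩ := (mem_torImage S c).1 h
  have hC := S.cert
  refine ⟨⟨tor D e, Borel.H_le_group hC (tor_mem_H hC e)⟩, aut_ext hC fun i t => ?_⟩
  have hsi := hC.simple_lt i.2
  have hneg : torChar D e (D.neg (D.simple i)) = (torChar D e (D.simple i))⁻¹ := by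
    rw [torChar, torChar, ← Finset.prod_inv_distrib]
    exact Finset.prod_congr rfl fun j hj => by
      rw [hC.cartan_neg hsi (Finset.mem_range.1 hj), zpow_neg]
  constructor
  · refine (Subtype.ext ?_ : _ = _).trans (dAut_spec S c i t).1.symm
    rw [he i]
    simp only [MulAut.conj_apply, Subgroup.coe_mul, Subgroup.coe_inv, coe_gx]
    exact tor_conj_x hC e _ t hsi
  · refine (Subtype.ext ?_ : _ = _).trans (dAut_spec S c i t).2.symm
    rw [he i, ← hneg]
    simp only [MulAut.conj_apply, Subgroup.coe_mul, Subgroup.coe_inv, coe_gx]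
    exact tor_conj_x hC e _ t (hC.neg_lt hsi)

/-- The class of a triple. -/
noncomputable def psi (x : (Fin D.rank → Fˣ) × Gam S F × (F ≃+* F)) : Cfsg.Out (D.group F) :=
  QuotientGroup.mk' (Cfsg.Inn (D.group F)) (dHom S F x.1 * gAut x.2.1 * fHom S.cert F x.2.2)

theorem psi_surjective [Finite F] : Function.Surjective (psi S (F := F)) := by
  intro y
  obtain ⟨θ, rfl⟩ := QuotientGroup.mk'_surjective (Cfsg.Inn (D.group F)) y
  obtain ⟨x, d, g, π, σ, hd, hsym, hg, h⟩ := decompose S θ
  obtain ⟨c, hc⟩ : d ∈ (dHom S F).range := by rw [← closure_diag S]; exact Subgroup.subset_closure hd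
  refine ⟨(c, ⟨π, hsym, g, hg⟩, σ), ?_⟩
  have e : θ = MulAut.conj x * (dHom S F c * gAut (S := S) (F := F) ⟨π, hsym, g, hg⟩ * fHom S.cert F σ) := by
    have hgg : gAut (S := S) (F := F) ⟨π, hsym, g, hg⟩ = g := aut_ext S.cert fun i t => by
      have h1 := gAut_spec (S := S) (F := F) ⟨π, hsym, g, hg⟩ i t
      exact ⟨h1.1.trans (hg i t).1.symm, h1.2.trans (hg i t).2.symm⟩
    refine MulEquiv.ext fun y => ?_
    rw [hgg, hc]
    exact h y
  have h1 : QuotientGroup.mk' (Cfsg.Inn (D.group F)) (MulAut.conj x) = 1 :=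
    (QuotientGroup.eq_one_iff _).2 ⟨x, rfl⟩
  rw [e, map_mul, h1, one_mul]
  rfl

theorem psi_eq_iff [Finite F] (c c' : Fin D.rank → Fˣ) (π π' : Gam S F) (σ σ' : F ≃+* F) :
    psi S (c, π, σ) = psi S (c', π', σ') ↔ π = π' ∧ σ = σ' ∧ c'⁻¹ * c ∈ torImage S F := by
  have hC := S.cert
  constructor
  · intro h
    obtain ⟨u, hu⟩ : ∃ u, u = gAut π * fHom hC F (σ * σ'⁻¹) * (gAut π')⁻¹ := ⟨_, rfl⟩
    have h2 : dHom S F (c'⁻¹ * c) * u ∈ Cfsg.Inn (D.group F) := by
      have h1 : (dHom S F c * gAut π * fHom hC F σ) * (dHom S F c' * gAut π' * fHom hC F σ')⁻¹ ∈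
          Cfsg.Inn (D.group F) := by
        rw [← QuotientGroup.eq_one_iff]
        have := mul_inv_eq_one.2 h
        simpa [psi] using this
      have := (Cfsg.innNormal (D.group F)).conj_mem _ h1 (dHom S F c')⁻¹
      rw [hu, map_mul, map_mul, map_inv, map_inv]
      simpa [mul_assoc] using this
    obtain ⟨x, hx⟩ := h2
    obtain ⟨a, hframe⟩ : ∃ a : Fin D.rank → F → F,
        Frame hC u (π.1 * π'.1⁻¹) a ∧ ∀ i, a i 1 = 1 ∧ a i (-1) = -1 := by
      have hex : ∀ i : Fin D.rank, Function.Surjective fun t : F =>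
          t ^ D.graphExp (ringChar F) (π'.1⁻¹ i) i := fun i => by
        refine Finite.injective_iff_surjective.1 fun t t' h => ?_
        rw [ChevalleyDatum.graphExp] at h
        split at h
        · have := ringChar.charP F
          have : Fact (ringChar F).Prime := ⟨CharP.char_is_prime F _⟩
          exact frobenius_inj F (ringChar F) h
        · simpa using h
      let r : Fin D.rank → F → F := fun i => Function.surjInv (hex i)
      have hr : ∀ i t, r i t ^ D.graphExp (ringChar F) (π'.1⁻¹ i) i = t := fun i =>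
        Function.surjInv_eq (hex i)
      refine ⟨fun i t => (σ * σ'⁻¹) (r i t) ^ D.graphExp (ringChar F) (π'.1⁻¹ i) (π.1 (π'.1⁻¹ i)),
        fun i t => ?_, fun i => ?_⟩
      · have hg' := gAut_spec π' (π'.1⁻¹ i) (r i t)
        rw [← Equiv.Perm.mul_apply π'.1 π'.1⁻¹ i, mul_inv_cancel, Equiv.Perm.one_apply, hr] at hg'
        have hg := gAut_spec π (π'.1⁻¹ i) ((σ * σ'⁻¹) (r i t))
        refine ⟨?_, ?_⟩
        · rw [hu, MulAut.mul_apply, MulAut.mul_apply, ← hg'.1]
          rw [MulAut.inv_apply_self, fHom_apply, hg.1]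
          rfl
        · rw [hu, MulAut.mul_apply, MulAut.mul_apply, ← hg'.2]
          rw [MulAut.inv_apply_self, fHom_apply, hg.2]
          rfl
      · have h1 : r i 1 = 1 := by
          have hinj := Finite.injective_iff_surjective.2 (hex i)
          exact hinj (by simpa using hr i 1)
        have h2 : r i (-1) = -1 := by
          have hinj := Finite.injective_iff_surjective.2 (hex i)
          refine hinj ?_
          simp only [hr i (-1), neg_one_pow_graphExp]
        simp only [h1, h2, map_neg, map_one, one_pow, neg_one_pow_graphExp]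
        exact ⟨trivial, trivial⟩
    obtain ⟨hframe, ha⟩ := hframe
    obtain ⟨hχ, hval, -, hd⟩ := (exists_diag_simple (F := F) S (c'⁻¹ * c)).choose_spec.choose_spec
    obtain ⟨hπ, hid, e, -, hce⟩ := inner_form S (d := dHom S F (c'⁻¹ * c)) (θ := u) (x := x) hd hframe ha
      fun y => by
        have := DFunLike.congr_fun hx y
        rw [MulAut.mul_apply, MulAut.conj_apply] at this
        exact this.symm
    have hππ : π = π' := Subtype.ext (mul_inv_eq_one.1 hπ)
    subst hππ
    refine ⟨rfl, ?_, (mem_torImage S _).2 ⟨e, fun i => (hval i).symm.trans (hce i)⟩⟩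
    have hu1 : u = 1 := aut_ext hC fun i t => by
      rw [mul_inv_cancel] at hframe
      rw [(hframe i t).1, (hframe i t).2, hid i t]
      exact ⟨rfl, rfl⟩
    have h3 : fHom hC F (σ * σ'⁻¹) = 1 := by
      have h4 : gAut π * fHom hC F (σ * σ'⁻¹) * (gAut π)⁻¹ = 1 := hu.symm.trans hu1
      simpa using h4
    have h0 : 0 < D.rank := by
      have := S.conn
      simp only [connChk, Bool.and_eq_true, decide_eq_true_eq] at this
      exact this.1
    refine mul_inv_eq_one.1 (RingEquiv.ext fun t => gx_injective hC (hC.simple_lt h0) ?_)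
    rw [← fHom_apply, h3]
    rfl
  · rintro ⟨rfl, rfl, h⟩
    have h1 : QuotientGroup.mk' (Cfsg.Inn (D.group F)) (dHom S F (c'⁻¹ * c)) = 1 :=
      (QuotientGroup.eq_one_iff _).2 (dHom_mem_inn S h)
    rw [map_mul, map_inv, map_mul, map_inv, inv_mul_eq_one] at h1
    simp only [psi, map_mul, h1]

theorem card_out [Finite F] :
    Nat.card (Cfsg.Out (D.group F)) =
      Nat.card ((Fin D.rank → Fˣ) ⧸ torImage S F) * Nat.card (Gam S F) * Nat.card (F ≃+* F) := by
  rw [mul_assoc, ← Nat.card_prod, ← Nat.card_prod]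
  let Φ : ((Fin D.rank → Fˣ) ⧸ torImage S F) × Gam S F × (F ≃+* F) → Cfsg.Out (D.group F) :=
    fun x => psi S (x.1.out, x.2)
  refine (Nat.card_congr (Equiv.ofBijective Φ ⟨?_, ?_⟩)).symm
  · rintro ⟨q, π, σ⟩ ⟨q', π', σ'⟩ h
    obtain ⟨rfl, rfl, h'⟩ := (psi_eq_iff S _ _ _ _ _ _).1 h
    have h2 : q' = q := by
      rw [← QuotientGroup.out_eq' q, ← QuotientGroup.out_eq' q']
      exact QuotientGroup.eq.2 h'
    rw [h2]
  · intro y
    obtain ⟨⟨c, π, σ⟩, rfl⟩ := psi_surjective S y
    refine ⟨(QuotientGroup.mk c, π, σ), (psi_eq_iff S _ _ _ _ _ _).2 ⟨rfl, rfl, ?_⟩⟩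
    exact QuotientGroup.eq.1 (QuotientGroup.out_eq' _).symm

theorem card_coker [Finite F] :
    Nat.card ((Fin D.rank → Fˣ) ⧸ torImage S F) = Nat.card (matHom (G := Fˣ) (cartanMat D)).ker := by
  refine Nat.eq_of_mul_eq_mul_right (m := Nat.card (torImage S F)) Nat.card_pos ?_
  rw [← Subgroup.index_eq_card, Subgroup.index_mul_card, ← Subgroup.index_ker,
    Subgroup.card_mul_index]

omit S in
theorem card_ringAut [Fintype F] (p f : ℕ) [Fact p.Prime] (hF : Fintype.card F = p ^ f) :
    Nat.card (F ≃+* F) = f := by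
  obtain ⟨ea⟩ := AutPSL.Out.exists_ringAut_equiv (p := p) (f := f) hF
  rw [Nat.card_congr ea.toEquiv, Nat.card_congr Multiplicative.toAdd, Nat.card_zmod]

end Cfsg.Agent.Chevalley.AutThm
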