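import Cfsg.Agent.Lib.Chevalley.Aut.Out
import Cfsg.Agent.Lib.Chevalley.Types.OrderG2
import Cfsg.Agent.Lib.Chevalley.Types.OrderB2
import Cfsg.Agent.Lib.Chevalley.Types.OrderD4
import Cfsg.Agent.Lib.Chevalley.Types.OrderF4
import Cfsg.Agent.Lib.Chevalley.Types.OrderE6
import Cfsg.Agent.Lib.Chevalley.Types.OrderE7
import Cfsg.Agent.Lib.Chevalley.Types.OrderE8

/-!
The permutations realised by graph automorphisms, type by type, and the orders of the outer
automorphism groups.
-/

set_option autoImplicit false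

namespace Cfsg.Agent.Chevalley.AutThm

open Cfsg.Lie Cfsg.Agent.Chevalley.Table Cfsg.Agent.Chevalley.Cert Cfsg.Agent.Chevalley.TorusCard
  Cfsg.Agent.Chevalley.Types

variable {D : ChevalleyDatum} {T : Tab} {N : List (List ℤ)} {F : Type*} [Field F]

/-- A permutation is determined by its list. -/
theorem piL_injective : Function.Injective (piL (D := D)) := fun π π' h =>
  Equiv.ext fun i => Fin.ext (by rw [← piL_getD π i, ← piL_getD π' i, h])

theorem card_gam (S : Setup D T N) (Ps : List (Equiv.Perm (Fin D.rank))) (hnd : Ps.Nodup)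
    (h : ∀ π, HasGraph S.cert F π ↔ π ∈ Ps) : Nat.card (Gam S F) = Ps.length := by
  classical
  rw [Nat.card_congr (Equiv.subtypeEquivRight h),
    Nat.card_congr (Equiv.subtypeEquivRight fun π => (List.mem_toFinset (l := Ps) (a := π)).symm),
    Nat.card_eq_finsetCard, List.toFinset_card_of_nodup hnd]

/-- A frame map is not realised for a refuted permutation. -/
theorem not_hasGraph_of_excl (S : Setup D T N) {π : Equiv.Perm (Fin D.rank)} [Finite F]
    (h : Excl D F π) : ¬ HasGraph S.cert F π := by
  rintro ⟨-, g, hg⟩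
  by_cases he : ∀ i : Fin D.rank, D.graphExp (ringChar F) i (π i) = 1
  · exact frame_not_excl S (θ := g) (σ := fun _ => RingEquiv.refl F)
      (fun i t => by rw [(hg i t).1, (hg i t).2, he i, pow_one]; exact ⟨rfl, rfl⟩) h
  · haveI := ringChar.charP F
    haveI : Fact (ringChar F).Prime := ⟨CharP.char_is_prime F _⟩
    refine frame_not_excl S (θ := g) (σ := fun i =>
      if D.graphExp (ringChar F) i (π i) = 1 then RingEquiv.refl F else frobeniusEquiv F (ringChar F))
      (fun i t => ?_) h
    rw [(hg i t).1, (hg i t).2]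
    by_cases h1 : D.graphExp (ringChar F) i (π i) = 1
    · simp only [h1, pow_one]; exact ⟨rfl, rfl⟩
    · have h2 : D.graphExp (ringChar F) i (π i) = ringChar F := by
        rw [ChevalleyDatum.graphExp] at h1 ⊢
        split
        · rfl
        · exact absurd (if_neg ‹_›) h1
      have h3 : ¬ ringChar F = 1 := h2 ▸ h1
      simp only [h2, if_neg h3, frobeniusEquiv_apply, frobenius_def]
      exact ⟨trivial, trivial⟩

theorem eq_of_piL {π π' : Equiv.Perm (Fin D.rank)} {P : List ℕ} (h : piL π = P) (h' : piL π' = P) :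
    π = π' := piL_injective (h.trans h'.symm)

theorem hasGraph_adjPres (S : Setup D T N) [Finite F] {π : Equiv.Perm (Fin D.rank)}
    (h : HasGraph S.cert F π) (hsl : ∀ i j : Fin D.rank, i ≠ j →
      (D.bonds i j = 0 ↔ D.cartan i (D.simple j) = 0)) : AdjPres π := fun i j hij => by
  rw [← hsl i j hij, ← hsl (π i) (π j) (fun e => hij (π.injective e)), h.1 i j hij]

/-- Bonds vanish with the Cartan entries. -/
def bondAdjChk (D : ChevalleyDatum) : Bool :=
  (List.range D.rank).all fun i => (List.range D.rank).all fun j =>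
    i == j || (D.bonds i j == 0) == (D.cartan i (D.simple j) == 0)

theorem bondAdj_of (h : bondAdjChk D = true) :
    ∀ i j : Fin D.rank, i ≠ j → (D.bonds i j = 0 ↔ D.cartan i (D.simple j) = 0) := fun i j hij => by
  simp only [bondAdjChk, List.all_eq_true, List.mem_range, Bool.or_eq_true, beq_iff_eq] at h
  have h1 := (h i i.2 j j.2).resolve_left fun e => hij (Fin.ext e)
  rw [← beq_iff_eq (a := D.bonds i j), h1, beq_iff_eq]

/-- The swap of two nodes. -/
def swapPerm : Equiv.Perm (Fin 2) := Equiv.swap 0 1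

/-- The reversal of four nodes. -/
def revPerm : Equiv.Perm (Fin 4) := Equiv.swap 0 3 * Equiv.swap 1 2

/-- The symmetry of type E6. -/
def tauPerm : Equiv.Perm (Fin 6) := Equiv.swap 0 5 * Equiv.swap 2 4

theorem gam_E6 [Finite F] : Nat.card (Gam setupE6 F) = 2 := by
  refine card_gam setupE6 [(1 : Equiv.Perm (Fin chevE6.rank)), (tauPerm : Equiv.Perm (Fin 6))]
    (by decide +kernel) fun π => ⟨fun h => ?_, fun h => ?_⟩
  · have hm := piL_mem setupE6.cert symBuild_E6
      (hasGraph_adjPres setupE6 h (bondAdj_of (by decide +kernel)))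
    simp only [List.mem_cons, List.not_mem_nil, or_false] at hm
    rcases hm with h' | h'
    · exact List.mem_cons.2 (Or.inl (eq_of_piL h' (by decide +kernel)))
    · exact List.mem_cons.2 (Or.inr (List.mem_singleton.2 (eq_of_piL h' (by decide +kernel))))
  · rcases List.mem_cons.1 h with h' | h'
    · subst h'; exact hasGraph_E6 (by decide +kernel)
    · obtain rfl := List.mem_singleton.1 h'
      exact hasGraph_E6 (by decide +kernel)

theorem gam_E7 [Finite F] : Nat.card (Gam setupE7 F) = 1 := by
  refine card_gam setupE7 [1] (List.nodup_singleton _) fun π => ⟨fun h => ?_, fun h => ?_⟩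
  · have hm := piL_mem setupE7.cert symBuild_E7
      (hasGraph_adjPres setupE7 h (bondAdj_of (by decide +kernel)))
    rw [List.mem_singleton] at hm
    exact List.mem_singleton.2 (eq_of_piL hm (by decide +kernel))
  · rw [List.mem_singleton] at h
    subst h
    exact hasGraph_refl _ rfl (by decide +kernel)

theorem gam_E8 [Finite F] : Nat.card (Gam setupE8 F) = 1 := by
  refine card_gam setupE8 [1] (List.nodup_singleton _) fun π => ⟨fun h => ?_, fun h => ?_⟩
  · have hm := piL_mem setupE8.cert symBuild_E8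
      (hasGraph_adjPres setupE8 h (bondAdj_of (by decide +kernel)))
    rw [List.mem_singleton] at hm
    exact List.mem_singleton.2 (eq_of_piL hm (by decide +kernel))
  · rw [List.mem_singleton] at h
    subst h
    exact hasGraph_refl _ rfl (by decide +kernel)

theorem gam_two (S : Setup D T N) [Finite F] {p : ℕ} {τ : Equiv.Perm (Fin D.rank)} {P : List ℕ}
    (hτ : piL τ = P) (hP : P ≠ List.range D.rank) (hone : piL (1 : Equiv.Perm (Fin D.rank)) = List.range D.rank)
    (hsym : ∀ π : Equiv.Perm (Fin D.rank), HasGraph S.cert F π → piL π ∈ [List.range D.rank, P])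
    (hyes : ringChar F = p → HasGraph S.cert F τ) (hno : ringChar F ≠ p → Excl D F τ) :
    Nat.card (Gam S F) = if ringChar F = p then 2 else 1 := by
  have h1 : HasGraph S.cert F (1 : Equiv.Perm (Fin D.rank)) := hasGraph_refl S.cert rfl hone
  have hmem : ∀ π, HasGraph S.cert F π → π = 1 ∨ π = τ := fun π h => by
    have hm := hsym π h
    simp only [List.mem_cons, List.not_mem_nil, or_false] at hm
    exact hm.imp (fun h' => eq_of_piL h' hone) (fun h' => eq_of_piL h' hτ)
  have hne : τ ≠ 1 := fun e => hP (by rw [← hτ, e, hone])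
  by_cases hp : ringChar F = p
  · rw [if_pos hp]
    refine card_gam S [1, τ] (by simp [Ne.symm hne]) fun π => ⟨fun h => ?_, fun h => ?_⟩
    · simpa using hmem π h
    · simp only [List.mem_cons, List.not_mem_nil, or_false] at h
      rcases h with rfl | rfl
      exacts [h1, hyes hp]
  · rw [if_neg hp]
    refine card_gam S [1] (List.nodup_singleton _) fun π => ⟨fun h => ?_, fun h => ?_⟩
    · rcases hmem π h with rfl | rfl
      · exact List.mem_singleton.2 rfl
      · exact absurd h (not_hasGraph_of_excl S (hno hp))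
    · rw [List.mem_singleton] at h
      subst h
      exact h1

theorem gam_G2 [Finite F] : Nat.card (Gam setupG2 F) = if ringChar F = 3 then 2 else 1 :=
  gam_two setupG2 (τ := (swapPerm : Equiv.Perm (Fin 2))) (P := [1, 0]) (by decide +kernel)
    (by decide +kernel) (by decide +kernel)
    (fun π h => piL_mem setupG2.cert symBuild_G2
      (hasGraph_adjPres setupG2 h (bondAdj_of (by decide +kernel))))
    (fun hp => hasGraph_G2 hp (by decide +kernel)) fun hp => excl_G2 hp (by decide +kernel)

theorem gam_B2 [Finite F] : Nat.card (Gam setupB2 F) = if ringChar F = 2 then 2 else 1 :=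
  gam_two setupB2 (τ := (swapPerm : Equiv.Perm (Fin 2))) (P := [1, 0]) (by decide +kernel)
    (by decide +kernel) (by decide +kernel)
    (fun π h => piL_mem setupB2.cert symBuild_B2
      (hasGraph_adjPres setupB2 h (bondAdj_of (by decide +kernel))))
    (fun hp => hasGraph_B2 hp (by decide +kernel)) fun hp => excl_B2 hp (by decide +kernel)

theorem gam_F4 [Finite F] : Nat.card (Gam setupF4 F) = if ringChar F = 2 then 2 else 1 :=
  gam_two setupF4 (τ := (revPerm : Equiv.Perm (Fin 4))) (P := [3, 2, 1, 0]) (by decide +kernel)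
    (by decide +kernel) (by decide +kernel)
    (fun π h => piL_mem setupF4.cert symBuild_F4
      (hasGraph_adjPres setupF4 h (bondAdj_of (by decide +kernel))))
    (fun hp => hasGraph_F4 hp (by decide +kernel)) fun hp => excl_F4 hp (by decide +kernel)

theorem card_coker_of [Fintype F] (S : Setup D T N)
    {P P' Q Q' : Matrix (Fin D.rank) (Fin D.rank) ℤ} {d : Fin D.rank → ℕ} (hP : P' * P = 1)
    (hQ : Q * Q' = 1) (hQ' : Q' * Q = 1)
    (h : P * cartanMat D * Q = Matrix.diagonal fun i => (d i : ℤ)) :
    Nat.card ((Fin D.rank → Fˣ) ⧸ torImage S F) = ∏ i, Nat.gcd (Fintype.card F - 1) (d i) := by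
  rw [card_coker S, card_ker_matHom hP hQ hQ' h, Nat.card_units, Nat.card_eq_fintype_card]

variable [Fintype F] (p f : ℕ) [Fact p.Prime] [CharP F p] (hF : Fintype.card F = p ^ f)
include hF

theorem out_G2 : Nat.card (Cfsg.Out (chevG2.group F)) = if p = 3 then 2 * f else f := by
  rw [card_out setupG2, gam_G2, card_coker_of setupG2 OrderG2.hP OrderG2.hQ OrderG2.hQ' OrderG2.hdiag,
    card_ringAut p f hF, ringChar.eq F p]
  show (∏ i : Fin 2, Nat.gcd (Fintype.card F - 1) (OrderG2.ed i)) * _ * _ = _
  simp only [OrderG2.ed, Fin.prod_univ_two, Matrix.cons_val_zero, Matrix.cons_val_one,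
    Nat.gcd_one_right, one_mul]
  split_ifs <;> simp

theorem out_F4 : Nat.card (Cfsg.Out (chevF4.group F)) = Nat.gcd 2 p * f := by
  rw [card_out setupF4, gam_F4, card_coker_of setupF4 OrderF4.hP OrderF4.hQ OrderF4.hQ' OrderF4.hdiag,
    card_ringAut p f hF, ringChar.eq F p]
  show (∏ i : Fin 4, Nat.gcd (Fintype.card F - 1) (OrderF4.ed i)) * _ * _ = _
  have he : ∀ i, OrderF4.ed i = 1 := by decide +kernel
  simp only [he, Nat.gcd_one_right, Finset.prod_const_one, one_mul]
  congr 1
  have hp : p.Prime := Fact.out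
  split_ifs with h
  · subst h; rfl
  · exact (Nat.Coprime.gcd_eq_one ((Nat.coprime_primes Nat.prime_two hp).2 (Ne.symm h))).symm

omit [CharP F p] in
theorem out_E6 : Nat.card (Cfsg.Out (chevE6.group F)) = 2 * Nat.gcd 3 (p ^ f - 1) * f := by
  rw [card_out setupE6, gam_E6, card_coker_of setupE6 OrderE6.hP OrderE6.hQ OrderE6.hQ' OrderE6.hdiag,
    card_ringAut p f hF]
  show (∏ i : Fin 6, Nat.gcd (Fintype.card F - 1) (OrderE6.ed i)) * _ * _ = _
  simp only [OrderE6.ed, Fin.prod_univ_succ, Fin.prod_univ_zero, Matrix.cons_val_zero,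
    Matrix.cons_val_succ, Nat.gcd_one_right, one_mul, mul_one, hF, Nat.gcd_comm (p ^ f - 1) 3]
  ring

omit [CharP F p] in
theorem out_E7 : Nat.card (Cfsg.Out (chevE7.group F)) = Nat.gcd 2 (p ^ f - 1) * f := by
  rw [card_out setupE7, gam_E7, card_coker_of setupE7 OrderE7.hP OrderE7.hQ OrderE7.hQ' OrderE7.hdiag,
    card_ringAut p f hF]
  show (∏ i : Fin 7, Nat.gcd (Fintype.card F - 1) (OrderE7.ed i)) * _ * _ = _
  simp only [OrderE7.ed, Fin.prod_univ_succ, Fin.prod_univ_zero, Matrix.cons_val_zero,
    Matrix.cons_val_succ, Nat.gcd_one_right, one_mul, mul_one, hF, Nat.gcd_comm (p ^ f - 1) 2]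

omit [CharP F p] in
theorem out_E8 : Nat.card (Cfsg.Out (chevE8.group F)) = f := by
  rw [card_out setupE8, gam_E8, card_coker_of setupE8 OrderE8.hP OrderE8.hQ OrderE8.hQ' OrderE8.hdiag,
    card_ringAut p f hF]
  show (∏ i : Fin 8, Nat.gcd (Fintype.card F - 1) (OrderE8.ed i)) * _ * _ = _
  have he : ∀ i, OrderE8.ed i = 1 := by decide +kernel
  simp only [he, Nat.gcd_one_right, Finset.prod_const_one, one_mul]

end Cfsg.Agent.Chevalley.AutThm
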