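import Cfsg.Agent.Lib.Chevalley.Aut.Roots

/-!
Rank-one rigidity: an automorphism permuting the root subgroups of a pair of opposite fundamental
roots and fixing the parameter `1` acts through a field automorphism.
-/

set_option autoImplicit false

open scoped Matrix Pointwise

namespace Cfsg.Agent.Chevalley.AutThm

open Cfsg.Lie Cfsg.Agent.Chevalley.Table Cfsg.Agent.Chevalley.Check
  Cfsg.Agent.Chevalley.Cert Cfsg.Agent.Chevalley.Relations Cfsg.Agent.Chevalley.Group
  Cfsg.Agent.Chevalley.Weight Cfsg.Agent.Chevalley.Unip Cfsg.Agent.Chevalley.Borel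
  Cfsg.Agent.Chevalley.Weyl Cfsg.Agent.Chevalley.Bruhat

variable {D : ChevalleyDatum} {F : Type*} [Field F] {T : Tab}

/-- The scalar matrix of a square root of `1`. -/
def sd (a : F) (h : a * a = 1) : Matrix.SpecialLinearGroup (Fin 2) F :=
  ⟨!![a, 0; 0, a], by rw [Matrix.det_fin_two_of, h]; ring⟩

@[simp] theorem coe_sd (a : F) (h : a * a = 1) :
    (sd a h : Matrix (Fin 2) (Fin 2) F) = !![a, 0; 0, a] := rfl

/-- A matrix `±1`. -/
def IsSign (g : Matrix.SpecialLinearGroup (Fin 2) F) : Prop :=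
  SL2.el g 0 1 = 0 ∧ SL2.el g 1 0 = 0 ∧ SL2.el g 0 0 = SL2.el g 1 1

variable (hC : Certified D T)
include hC

/-- The rank-one map of a fundamental root. -/
theorem exists_rank1 {i : ℕ} (hi : i < D.rank) :
    ∃ φ : Matrix.SpecialLinearGroup (Fin 2) F →* D.group F,
      (∀ t, φ (SL2.sx t) = gx hC (D.simple i) t) ∧
      (∀ t, φ (SL2.sy t) = gx hC (D.neg (D.simple i)) t) ∧ ∀ g, φ g = 1 → IsSign g := by
  classical
  have hsi := hC.simple_lt hi
  obtain ⟨φ, h1, h2, h3⟩ := SL2.exists_hom (SL2.rank1 (F := F) hC hsi)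
  have hmem : ∀ g, φ g ∈ D.group F := fun g => by
    refine (Subgroup.closure_le (D.group F)).2 ?_ (h3 g)
    rintro _ (⟨t, rfl⟩ | ⟨t, rfl⟩) <;> exact xg_mem_group' hC _ _
  refine ⟨φ.codRestrict (D.group F) hmem, fun t => Subtype.ext (h1 t), fun t => Subtype.ext (h2 t),
    fun g hg => ?_⟩
  have hg' : φ g = 1 := congrArg Subtype.val hg
  have hc : SL2.el g 1 0 = 0 := by
    by_contra hc
    -- otherwise `x_{-p}(c) ∈ B`
    rw [SL2.decomp hc, map_mul, map_mul, h1, h2, h1] at hg'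
    have hy : xg hC (D.neg (D.simple i)) (SL2.el g 1 0) ∈
        D.borelSubgroup F ⊓ D.negUnipotent F := by
      refine Subgroup.mem_inf.2 ⟨?_, xg_mem_V hC (hC.neg_lt hsi) ?_ _⟩
      · rw [show xg hC (D.neg (D.simple i)) (SL2.el g 1 0) =
          (xg hC (D.simple i) ((SL2.el g 0 0 - 1) / SL2.el g 1 0))⁻¹ *
            (xg hC (D.simple i) ((SL2.el g 1 1 - 1) / SL2.el g 1 0))⁻¹ by
            rw [eq_inv_mul_iff_mul_eq, eq_inv_iff_mul_eq_one]; exact hg']
        exact mul_mem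
          (inv_mem (Subgroup.mem_sup_left (xg_mem_U hC hsi (hC.phi_simple hi) _)))
          (inv_mem (Subgroup.mem_sup_left (xg_mem_U hC hsi (hC.phi_simple hi) _)))
      · rw [hC.phi_neg hsi]
        have := hC.phi_simple hi
        omega
    rw [B_inf_V hC, Subgroup.mem_bot, ← xg_zero hC (D.neg (D.simple i))] at hy
    exact hc (xg_injective hC (hC.neg_lt hsi) hy)
  have hdet := SL2.el_det g
  rw [hc, mul_zero, sub_zero] at hdet
  have ha : SL2.el g 0 0 ≠ 0 := left_ne_zero_of_mul (hdet ▸ one_ne_zero)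
  -- `g x(1) g⁻¹ = x(a²)`
  have hd : SL2.el g 1 1 = (SL2.el g 0 0)⁻¹ := eq_inv_of_mul_eq_one_right hdet
  have e1 : g * SL2.sx 1 = SL2.sx (SL2.el g 0 0 * SL2.el g 0 0) * g := by
    ext a b
    fin_cases a <;> fin_cases b <;>
      simp [Matrix.mul_apply, Fin.sum_univ_two, SL2.el] at hc hd ha ⊢ <;>
      simp [hc, hd] <;> field_simp <;> ring
  have ha2 : SL2.el g 0 0 * SL2.el g 0 0 = 1 := by
    have := congrArg φ e1
    rw [map_mul, map_mul, hg', one_mul, mul_one, h1, h1] at this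
    exact (xg_injective hC hsi this).symm
  have hd' : SL2.el g 0 0 = SL2.el g 1 1 := by rw [hd]; exact eq_inv_of_mul_eq_one_left ha2
  refine ⟨?_, hc, hd'⟩
  -- `g = x(b a⁻¹) · (± 1)`, and `± 1` acts trivially on `x`
  have e2 : g = SL2.sx (SL2.el g 0 1 * SL2.el g 0 0) * sd (SL2.el g 0 0) ha2 := by
    ext a b
    fin_cases a <;> fin_cases b <;> simp [Matrix.mul_apply, Fin.sum_univ_two, SL2.el] at hc hd' ha2 ⊢
    · rw [mul_assoc, ha2, mul_one]
    · exact hc
    · exact hd'.symm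
  by_contra hb
  rw [e2, map_mul, h1] at hg'
  obtain ⟨z, hz⟩ : ∃ z, z = φ (sd (SL2.el g 0 0) ha2) := ⟨_, rfl⟩
  rw [← hz] at hg'
  have hzH : z ∈ D.diagonalSubgroup F := by
    rcases mul_self_eq_one_iff.1 ha2 with e | e
    · rw [hz, show sd (SL2.el g 0 0) ha2 = 1 by
          ext a b; fin_cases a <;> fin_cases b <;> simp [e], map_one]
      exact one_mem _
    · have e3 : sd (SL2.el g 0 0) ha2 =
          SL2.sx 1 * SL2.sy (-1) * SL2.sx 1 * (SL2.sx 1 * SL2.sy (-1) * SL2.sx 1) := by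
        ext a b; fin_cases a <;> fin_cases b <;> simp [e, Matrix.mul_apply, Fin.sum_univ_two]
      rw [hz, e3, map_mul, map_mul, map_mul, h1, h2]
      obtain ⟨c, hc'⟩ := ng_sq (F := F) hC hi
      rw [show xg hC (D.simple i) (1 : F) * xg hC (D.neg (D.simple i)) (-1) * xg hC (D.simple i) 1 =
        ng hC (D.simple i) (1 : F) by simp [ng], hc']
      exact tor_mem_H hC _
  have hzU : z ∈ D.posUnipotent F := by
    rw [eq_inv_of_mul_eq_one_right hg']
    exact inv_mem (xg_mem_U hC hsi (hC.phi_simple hi) _)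
  have h1' : z ∈ (⊥ : Subgroup (GL D.Idx F)) := U_inf_H (F := F) hC ▸ ⟨hzU, hzH⟩
  rw [Subgroup.mem_bot.1 h1', mul_one, ← xg_zero hC (D.simple i)] at hg'
  exact hb ((mul_eq_zero.1 (xg_injective hC hsi hg')).resolve_right ha)

/-- The only way for `x(s) y(u) x(s)` to carry `X` into `Y`. -/
theorem eq_of_conj {i : ℕ} (hi : i < D.rank) {s u : F}
    (h : ∃ d, gx hC (D.simple i) s * gx hC (D.neg (D.simple i)) u * gx hC (D.simple i) s *
      gx hC (D.simple i) 1 =
        gx hC (D.neg (D.simple i)) d *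
          (gx hC (D.simple i) s * gx hC (D.neg (D.simple i)) u * gx hC (D.simple i) s)) :
    1 + s * u = 0 := by
  obtain ⟨d, hd⟩ := h
  obtain ⟨φ, h1, h2, h3⟩ := exists_rank1 (F := F) hC hi
  obtain ⟨m, hm⟩ : ∃ m, m = SL2.sx s * SL2.sy u * SL2.sx s := ⟨_, rfl⟩
  have hk : φ ((m * SL2.sx 1) * m⁻¹ * (SL2.sy d)⁻¹) = 1 := by
    simp only [hm, map_mul, map_inv, h1, h2, hd]
    group
  obtain ⟨k, hk'⟩ : ∃ k, k = (m * SL2.sx 1) * m⁻¹ * (SL2.sy d)⁻¹ := ⟨_, rfl⟩
  obtain ⟨hk01, -, -⟩ := h3 _ hk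
  rw [← hk'] at hk01
  have e : m * SL2.sx 1 = k * SL2.sy d * m := by rw [hk']; group
  have e01 := congrArg (fun g : Matrix.SpecialLinearGroup (Fin 2) F => SL2.el g 0 1) e
  have e00 := congrArg (fun g : Matrix.SpecialLinearGroup (Fin 2) F => SL2.el g 0 0) e
  simp only [SL2.el_mul] at e01 e00
  simp [SL2.el] at e01 e00 hk01
  rw [hk01] at e01 e00
  simp at e01 e00
  have hm00 : (m : Matrix (Fin 2) (Fin 2) F) 0 0 = 1 + s * u := by
    simp [hm, Matrix.mul_apply, Fin.sum_univ_two]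
  rw [← hm00]
  by_contra hne
  have hk00 : (k : Matrix (Fin 2) (Fin 2) F) 0 0 = 1 := by
    refine mul_right_cancel₀ hne ?_
    rw [one_mul]
    linear_combination (-1 : F) * e00
  rw [hk00, one_mul] at e01
  exact hne (by linear_combination e01)

theorem gn_conj {i : ℕ} (hi : i < D.rank) {t : F} (ht : t ≠ 0) (v : F) :
    gn hC (D.simple i) t * gx hC (D.simple i) v =
      gx hC (D.neg (D.simple i)) (-v / t ^ 2) * gn hC (D.simple i) t := by
  obtain ⟨φ, h1, h2, -⟩ := exists_rank1 (F := F) hC hi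
  have e : SL2.sx t * SL2.sy (-t⁻¹) * SL2.sx t * SL2.sx v =
      SL2.sy (-v / t ^ 2) * (SL2.sx t * SL2.sy (-t⁻¹) * SL2.sx t) := by
    ext a b
    fin_cases a <;> fin_cases b <;> simp [Matrix.mul_apply, Fin.sum_univ_two] <;> field_simp <;>
      (try ring_nf) <;> (try simp) <;> tauto
  have := congrArg φ e
  simpa only [map_mul, h1, h2, gn] using this

omit hC in
/-- Additive bijections fixing `1` with the rank-one identity are field automorphisms. -/
theorem ringHom_of_rank1 [Finite F] {a b : F → F} (ha : ∀ x y, a (x + y) = a x + a y) (ha1 : a 1 = 1)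
    (h2 : ∀ t, t ≠ 0 → ∀ v, b (v / t ^ 2) = a v / a t ^ 2) (hat : ∀ t, t ≠ 0 → a t ≠ 0) :
    (∀ x y, a (x * y) = a x * a y) ∧ b = a := by
  have hb : b = a := funext fun v => by simpa [ha1] using h2 1 one_ne_zero v
  subst hb
  have hsq : ∀ t v : F, t ≠ 0 → b (t ^ 2 * v) = b t ^ 2 * b v := fun t v ht => by
    have h := h2 t ht (t ^ 2 * v)
    rw [mul_div_cancel_left₀ _ (pow_ne_zero 2 ht)] at h
    rw [h]
    field_simp [hat t ht]
  have h0 : b 0 = 0 := by
    have := ha 0 0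
    rw [add_zero] at this
    simpa using this
  have hsq' : ∀ t v : F, b (t ^ 2 * v) = b t ^ 2 * b v := fun t v => by
    by_cases ht : t = 0
    · simp [ht, h0]
    · exact hsq t v ht
  refine ⟨fun x y => ?_, rfl⟩
  by_cases h2F : (2 : F) = 0
  · haveI : CharP F 2 := CharTwo.of_one_ne_zero_of_two_eq_zero one_ne_zero h2F
    haveI := Fintype.ofFinite F
    obtain ⟨s, hs⟩ : ∃ s : F, s ^ 2 = x := (bijective_frobenius F 2).2 x
    subst hs
    rw [hsq', show b (s ^ 2) = b s ^ 2 by simpa [ha1] using hsq' s 1]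
  · have e1 := hsq' (x + 1) y
    rw [show (x + 1) ^ 2 * y = x ^ 2 * y + (x * y + (x * y + 1 ^ 2 * y)) by ring, ha, ha, ha, hsq',
      hsq', ha, ha1] at e1
    have : (2 : F) * (b (x * y) - b x * b y) = 0 := by linear_combination e1
    exact sub_eq_zero.1 ((mul_eq_zero.1 this).resolve_left h2F)

/-- An automorphism sending `X_i`, `X_{-i}` onto `X_j`, `X_{-j}` and `x_i(1)` to `x_j(1)`. -/
theorem exists_field [Finite F] {θ : D.group F ≃* D.group F} {i j : ℕ} (hi : i < D.rank)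
    (hj : j < D.rank)
    (hp : (Xg hC F (D.simple i)).map θ.toMonoidHom = Xg hC F (D.simple j))
    (hn : (Xg hC F (D.neg (D.simple i))).map θ.toMonoidHom = Xg hC F (D.neg (D.simple j)))
    (h1 : θ (gx hC (D.simple i) 1) = gx hC (D.simple j) 1) :
    ∃ σ : F ≃+* F, ∀ t, θ (gx hC (D.simple i) t) = gx hC (D.simple j) (σ t) ∧
      θ (gx hC (D.neg (D.simple i)) t) = gx hC (D.neg (D.simple j)) (σ t) := by
  have hsi := hC.simple_lt hi
  have hsj := hC.simple_lt hj
  have hnj := hC.neg_lt hsj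
  have hga : ∀ t : F, ∃ t', θ (gx hC (D.simple i) t) = gx hC (D.simple j) t' := fun t => by
    obtain ⟨t', ht'⟩ : θ (gx hC (D.simple i) t) ∈ Xg hC F (D.simple j) := hp ▸ ⟨_, ⟨t, rfl⟩, rfl⟩
    exact ⟨t', ht'.symm⟩
  have hgb : ∀ t : F, ∃ t', θ (gx hC (D.neg (D.simple i)) t) = gx hC (D.neg (D.simple j)) t' :=
    fun t => by
      obtain ⟨t', ht'⟩ : θ (gx hC (D.neg (D.simple i)) t) ∈ Xg hC F (D.neg (D.simple j)) :=
        hn ▸ ⟨_, ⟨t, rfl⟩, rfl⟩
      exact ⟨t', ht'.symm⟩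
  choose a ha using hga
  choose b hb using hgb
  have hadd : ∀ x y, a (x + y) = a x + a y := fun x y => gx_injective hC hsj (by
    rw [← ha, gx_add, map_mul, ha, ha, gx_add])
  have hbadd : ∀ x y, b (x + y) = b x + b y := fun x y => gx_injective hC hnj (by
    rw [← hb, gx_add, map_mul, hb, hb, gx_add])
  have hainj : Function.Injective a := fun x y h => by
    refine gx_injective hC hsi (θ.injective ?_)
    rw [ha, ha, h]
  have hbneg : ∀ x, b (-x) = -b x := fun x => by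
    have h0 : b 0 = 0 := by simpa using hbadd 0 0
    exact eq_neg_of_add_eq_zero_left (by rw [← hbadd, neg_add_cancel, h0])
  have ha0 : a 0 = 0 := by simpa using hadd 0 0
  have hat : ∀ t, t ≠ 0 → a t ≠ 0 := fun t ht h => ht (hainj (h.trans ha0.symm))
  have hkey : ∀ t, t ≠ 0 → b (-t⁻¹) = -(a t)⁻¹ := by
    intro t ht
    have e := congrArg θ (gn_conj hC hi ht 1)
    simp only [gn, map_mul, ha, hb] at e
    have h := eq_of_conj hC hj ⟨_, by rw [show a 1 = 1 from gx_injective hC hsj ((ha 1).symm.trans h1)] at e; exact e⟩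
    rw [eq_neg_iff_add_eq_zero]
    refine (mul_eq_zero.1 (show a t * (b (-t⁻¹) + (a t)⁻¹) = 0 by
      rw [mul_add, mul_inv_cancel₀ (hat t ht), add_comm]; exact h)).resolve_left (hat t ht)
  have hn1 : ∀ t, t ≠ 0 → θ (gn hC (D.simple i) t) = gn hC (D.simple j) (a t) := fun t ht => by
    simp only [gn, map_mul, ha, hb, hkey t ht]
  have h2 : ∀ t, t ≠ 0 → ∀ v, b (v / t ^ 2) = a v / a t ^ 2 := fun t ht v => by
    have e := congrArg θ (gn_conj hC hi ht v)
    rw [map_mul, map_mul, hn1 t ht, ha, hb, gn_conj hC hj (hat t ht)] at e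
    have := gx_injective hC hnj (mul_right_cancel e)
    rw [neg_div, neg_div, hbneg] at this
    exact (neg_inj.1 this).symm
  have ha1 : a 1 = 1 := gx_injective hC hsj ((ha 1).symm.trans h1)
  obtain ⟨hmul, hab⟩ := ringHom_of_rank1 (F := F) hadd ha1 h2 hat
  refine ⟨RingEquiv.ofBijective
    ({ toFun := a, map_one' := ha1, map_mul' := hmul, map_zero' := ha0, map_add' := hadd } : F →+* F)
    (Finite.injective_iff_bijective.1 hainj), fun t => ⟨ha t, ?_⟩⟩
  rw [hb, hab]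
  rfl

end Cfsg.Agent.Chevalley.AutThm
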