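import Cfsg.Agent.Lib.Chevalley.Aut.Frame
import Cfsg.Agent.Lib.Chevalley.SL2

/-!
An automorphism fixing `U` and `V` permutes the root subgroups of the fundamental roots and of their
negatives, through one permutation of the nodes.
-/

set_option autoImplicit false

open scoped Matrix Pointwise

namespace Cfsg.Agent.Chevalley.AutThm

open Cfsg.Lie Cfsg.Agent.Chevalley.Table Cfsg.Agent.Chevalley.Check
  Cfsg.Agent.Chevalley.Cert Cfsg.Agent.Chevalley.Relations Cfsg.Agent.Chevalley.Group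
  Cfsg.Agent.Chevalley.Weight Cfsg.Agent.Chevalley.Unip Cfsg.Agent.Chevalley.Borel
  Cfsg.Agent.Chevalley.Weyl Cfsg.Agent.Chevalley.Bruhat Cfsg.Agent.Chevalley.Coef
  Cfsg.Agent.Chevalley.Graded

variable {D : ChevalleyDatum} {F : Type*} [Field F] {T : Tab}

/-- The root subgroup, inside the group, as a range. -/
def Xg (hC : Certified D T) (F : Type*) [Field F] (r : ℕ) : Subgroup (D.group F) where
  carrier := Set.range (gx (F := F) hC r)
  one_mem' := ⟨0, gx_zero hC r⟩
  mul_mem' := fun ⟨t, ht⟩ ⟨u, hu⟩ => ⟨t + u, by rw [gx_add, ht, hu]⟩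
  inv_mem' := fun ⟨t, ht⟩ => ⟨-t, by rw [← gx_inv hC r t, ht]⟩

variable (hC : Certified D T)
include hC

theorem mem_Xg {r : ℕ} {g : D.group F} : g ∈ Xg hC F r ↔ ∃ t, gx hC r t = g := Iff.rfl

theorem card_Xg {r : ℕ} (hr : r < D.nroots) : Nat.card (Xg hC F r) = Nat.card F := by
  refine (Nat.card_congr (Equiv.ofBijective
    (fun t : F => (⟨gx hC r t, ⟨t, rfl⟩⟩ : Xg hC F r)) ⟨fun t u h => ?_, ?_⟩)).symm
  · exact gx_injective hC hr (congrArg Subtype.val h)
  · rintro ⟨_, t, rfl⟩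
    exact ⟨t, rfl⟩

theorem Xg_inj {r s : ℕ} (hr : r < D.nroots) (hs : s < D.nroots) (h : Xg hC F r = Xg hC F s) :
    r = s := by
  obtain ⟨t, ht⟩ : gx hC r (1 : F) ∈ Xg hC F s := h ▸ ⟨1, rfl⟩
  exact xg_eq_xg hC hr hs one_ne_zero (congrArg Subtype.val ht).symm

theorem gn_mem_S {i : ℕ} (hi : i < D.rank) :
    gn hC (D.simple i) (1 : F) ∈ (bn (F := F) hC).S := ⟨i, hi, coe_gn hC _ _⟩

/-- The minimal parabolic subgroup of a node. -/
abbrev Pp (hC : Certified D T) (F : Type*) [Field F] (i : ℕ) : Subgroup (D.group F) :=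
  (bn (F := F) hC).parabolic {gn hC (D.simple i) (1 : F)}

theorem U_le_B : Ug D F ≤ (bn (F := F) hC).B := fun _ hg =>
  Subgroup.mem_subgroupOf.2 (Subgroup.mem_sup_left (Subgroup.mem_subgroupOf.1 hg))

theorem neg_gx_mem {i : ℕ} (hi : i < D.rank) (t : F) :
    gx hC (D.neg (D.simple i)) t ∈ Pp hC F i := by
  obtain ⟨u, hu⟩ := neg_xg_mem hC hi t
  have e : gx hC (D.neg (D.simple i)) t =
      gn hC (D.simple i) 1 * gx hC (D.simple i) u * (gn hC (D.simple i) (1 : F))⁻¹ := Subtype.ext hu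
  have hn : gn hC (D.simple i) (1 : F) ∈ Pp hC F i := BN.Parabolic.mem_parabolic_of_mem rfl
  rw [e]
  exact mul_mem (mul_mem hn (BN.Parabolic.B_le_parabolic _ (U_le_B hC (gx_pos_mem hC hi u))))
    (inv_mem hn)

/-- `P_i ∩ V` is the negative root subgroup. -/
theorem Pp_inf_V [Finite F] {i : ℕ} (hi : i < D.rank) :
    Pp hC F i ⊓ Vg D F = Xg hC F (D.neg (D.simple i)) := by
  classical
  have hle : Xg hC F (D.neg (D.simple i)) ≤ Pp hC F i ⊓ Vg D F := by
    rintro _ ⟨t, rfl⟩
    exact ⟨neg_gx_mem hC hi t, gx_neg_mem hC hi t⟩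
  let rep : Option F → D.group F := fun o =>
    o.elim 1 fun t => gx hC (D.simple i) t * gn hC (D.simple i) 1
  have hcell : ∀ g ∈ Pp hC F i, ∃ o, (rep o)⁻¹ * g ∈ (bn (F := F) hC).B := by
    intro g hg
    have h := BN.Parabolic.parabolic_singleton
      (⟨gn hC (D.simple i) 1, gn_mem_S hC hi⟩ : (bn (F := F) hC).S)
    have hg' : g ∈ ((bn (F := F) hC).B : Set (D.group F)) ∪
        BN.Basic.dc (bn (F := F) hC) (gn hC (D.simple i) 1) := h ▸ hg
    rcases hg' with hg' | hg'
    · exact ⟨none, by simpa [rep] using hg'⟩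
    obtain ⟨b, hb, b', hb', rfl⟩ := BN.Basic.mem_dc.1 hg'
    obtain ⟨u, hu, h0, hh, e⟩ := (mem_B_iff hC).1 (Subgroup.mem_subgroupOf.1 hb)
    obtain ⟨v, hv, t, hut⟩ := U_split hC (hC.simple_lt hi) (hC.phi_simple hi) (inv_mem hu)
    refine ⟨some (-t), ?_⟩
    have hut' : u = xg hC (D.simple i) (-t) * v⁻¹ := by
      rw [← inv_inv u, hut, mul_inv_rev, xg_inv hC]
    show ((rep (some (-t)))⁻¹ * (b * gn hC (D.simple i) 1 * b') : D.group F) ∈ (bn (F := F) hC).B
    refine Subgroup.mem_subgroupOf.2 ?_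
    simp only [rep, Option.elim_some, Subgroup.coe_mul, Subgroup.coe_inv, coe_gx, coe_gn, e, hut']
    have e2 : (xg hC (D.simple i) (-t) * ng hC (D.simple i) 1)⁻¹ *
        (xg hC (D.simple i) (-t) * v⁻¹ * h0 * ng hC (D.simple i) 1 * (b' : GL D.Idx F)) =
        ((ng hC (D.simple i) (1 : F))⁻¹ * v⁻¹ * ng hC (D.simple i) 1) *
          ((ng hC (D.simple i) (1 : F))⁻¹ * h0 * ng hC (D.simple i) 1) * (b' : GL D.Idx F) := by
      group
    rw [e2]
    refine mul_mem (mul_mem (Subgroup.mem_sup_left (Uom_le_U hC (D.simple i) ?_)) (Subgroup.mem_sup_right ?_))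
      (Subgroup.mem_subgroupOf.1 hb')
    · have := inv_mem (ng_normalizes_Uom (F := F) hC hi)
      have := (Subgroup.mem_normalizer_iff.1 this v⁻¹).1 (inv_mem hv)
      simpa [mul_assoc] using this
    · have := H_conj hC (inv_mem (ng_mem_N (F := F) hC hi)) hh
      simpa [mul_assoc] using this
  choose f hf using hcell
  let f' : ↥(Pp hC F i ⊓ Vg D F) → Option F := fun g => f g g.2.1
  have hinj : Function.Injective f' := by
    intro g g' hgg
    simp only [f'] at hgg
    have h1 := hf _ g.2.1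
    have h2 := hf _ g'.2.1
    rw [hgg] at h1
    have h3 := mul_mem (inv_mem h1) h2
    rw [show ((rep (f _ g'.2.1))⁻¹ * (g : D.group F))⁻¹ * ((rep (f _ g'.2.1))⁻¹ * g') =
      (g : D.group F)⁻¹ * g' by group] at h3
    have h4 : ((g : D.group F)⁻¹ * g' : D.group F) ∈ Vg D F := mul_mem (inv_mem g.2.2) g'.2.2
    have h5 : (((g : D.group F)⁻¹ * g' : D.group F) : GL D.Idx F) ∈
        D.borelSubgroup F ⊓ D.negUnipotent F :=
      ⟨Subgroup.mem_subgroupOf.1 h3, Subgroup.mem_subgroupOf.1 h4⟩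
    rw [B_inf_V hC, Subgroup.mem_bot] at h5
    exact Subtype.ext (inv_mul_eq_one.1 (Subtype.ext h5))
  haveI := Fintype.ofFinite F
  have hb : Nat.card ↥(Pp hC F i ⊓ Vg D F) ≤ Nat.card F + 1 := by
    refine (Nat.card_le_card_of_injective f' hinj).trans (le_of_eq ?_)
    rw [Nat.card_eq_fintype_card, Nat.card_eq_fintype_card, Fintype.card_option]
  have hd := Subgroup.card_dvd_of_le hle
  rw [card_Xg hC (hC.neg_lt (hC.simple_lt hi))] at hd
  have h2 : 2 ≤ Nat.card F := Finite.one_lt_card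
  refine (Subgroup.eq_of_le_of_card_ge hle ?_).symm
  rw [card_Xg hC (hC.neg_lt (hC.simple_lt hi))]
  obtain ⟨k, hk⟩ := hd
  have hk1 : k ≤ 1 := by
    by_contra hk2
    have : Nat.card F * 2 ≤ Nat.card F * k := Nat.mul_le_mul_left _ (by omega)
    omega
  calc _ = Nat.card F * k := hk
    _ ≤ Nat.card F * 1 := Nat.mul_le_mul_left _ hk1
    _ = _ := mul_one _

theorem eq_of_gn_mem [Finite F] {i k : ℕ} (hi : i < D.rank) (hk : k < D.rank)
    (h : gn hC (D.simple k) (1 : F) ∈ Pp hC F i) : k = i := by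
  obtain ⟨η, hη, he⟩ := eta_field (F := F) (i := k) (r := D.simple k) hC
  have hsk := hC.simple_lt hk
  have hx : gx hC (D.neg (D.simple k)) η ∈ Pp hC F i := by
    have e : gx hC (D.neg (D.simple k)) η =
        gn hC (D.simple k) 1 * gx hC (D.simple k) 1 * (gn hC (D.simple k) (1 : F))⁻¹ := by
      refine Subtype.ext ?_
      simp only [Subgroup.coe_mul, Subgroup.coe_inv, coe_gx, coe_gn]
      rw [ng_conj_x hC hk hsk, hC.reflect_simple hk, ← he, mul_one]
    rw [e]
    exact mul_mem (mul_mem h (BN.Parabolic.B_le_parabolic _ (U_le_B hC (gx_pos_mem hC hk 1)))) (inv_mem h)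
  obtain ⟨t, ht⟩ : gx hC (D.neg (D.simple k)) η ∈ Xg hC F (D.neg (D.simple i)) := by
    rw [← Pp_inf_V hC hi]
    exact ⟨hx, gx_neg_mem hC hk η⟩
  have := xg_eq_xg hC (hC.neg_lt hsk) (hC.neg_lt (hC.simple_lt hi)) hη (congrArg Subtype.val ht).symm
  refine hC.simple_inj hk hi ?_
  rw [← hC.neg_neg hsk, this, hC.neg_neg (hC.simple_lt hi)]

variable {N : List (List ℤ)} (hN : coefChk T N = true)

include hN in
/-- The negative root subgroups are permuted. -/
theorem exists_neg_perm [Finite F] {θ : D.group F ≃* D.group F}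
    (hU : (Ug D F).map θ.toMonoidHom = Ug D F) (hV : (Vg D F).map θ.toMonoidHom = Vg D F) :
    ∃ π : Equiv.Perm (Fin D.rank), ∀ i : Fin D.rank,
      (Xg hC F (D.neg (D.simple i))).map θ.toMonoidHom = Xg hC F (D.neg (D.simple (π i))) := by
  classical
  have hB : (bn (F := F) hC).B.map θ.toMonoidHom = (bn (F := F) hC).B := by
    show (Bg D F).map θ.toMonoidHom = Bg D F
    have := map_normalizer θ hU
    rwa [normalizer_U hC hN] at this
  have key : ∀ i : Fin D.rank, ∃ j : Fin D.rank, (Pp hC F i).map θ.toMonoidHom = Pp hC F j := by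
    intro i
    obtain ⟨M, hM⟩ : ∃ M, M = (Pp hC F i).map θ.toMonoidHom := ⟨_, rfl⟩
    have hBM : (bn (F := F) hC).B ≤ M := by
      rw [hM, ← hB]
      exact Subgroup.map_mono (BN.Parabolic.B_le_parabolic _)
    obtain ⟨s, hs, hsM⟩ : ∃ s, s ∈ (bn (F := F) hC).S ∧ s ∈ M := by
      by_contra hcon
      have hMB : M ≤ (bn (F := F) hC).B := by
        rw [BN.Parabolic.le_parabolic_mem hBM]
        refine sup_le le_rfl ((Subgroup.closure_le _).2 fun s hs => ?_)
        exact absurd ⟨s, hs⟩ hcon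
      have h1 : gn hC (D.simple i) (1 : F) ∈ (bn (F := F) hC).B := by
        have : θ (gn hC (D.simple i) 1) ∈ (bn (F := F) hC).B :=
          hMB (hM ▸ ⟨_, BN.Parabolic.mem_parabolic_of_mem rfl, rfl⟩)
        rw [← hB] at this
        obtain ⟨b, hb, hbe⟩ := this
        rwa [← θ.injective hbe]
      have h2 := BN.Parabolic.mem_iff_mem_parabolic (P := bn (F := F) hC) (Set.empty_subset _)
        (gn_mem_S hC i.2)
      exact (Set.notMem_empty _) (h2.1 (BN.Parabolic.B_le_parabolic _ h1))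
    obtain ⟨j, hj, hjs⟩ := hs
    obtain rfl : s = gn hC (D.simple j) 1 := Subtype.ext (hjs.trans (coe_gn hC _ _).symm)
    refine ⟨⟨j, hj⟩, le_antisymm ?_ ?_⟩
    swap
    · rw [← hM]
      exact sup_le hBM ((Subgroup.closure_le _).2 (Set.singleton_subset_iff.2 hsM))
    · rw [← hM]
      obtain ⟨K, hK⟩ : ∃ K, K = (Pp hC F j).comap θ.toMonoidHom := ⟨_, rfl⟩
      have hBK : (bn (F := F) hC).B ≤ K := fun b hb => by
        rw [hK, Subgroup.mem_comap]
        exact BN.Parabolic.B_le_parabolic _ (hB ▸ ⟨b, hb, rfl⟩)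
      have hKi : K ≤ Pp hC F i := fun x hx => by
        rw [hK, Subgroup.mem_comap] at hx
        have : θ x ∈ M := (sup_le hBM ((Subgroup.closure_le _).2 (Set.singleton_subset_iff.2 hsM))) hx
        rw [hM] at this
        obtain ⟨y, hy, hyx⟩ := this
        rwa [← θ.injective hyx]
      obtain ⟨s', ⟨⟨k, hk, hks⟩, hs'K⟩⟩ : ∃ s', s' ∈ (bn (F := F) hC).S ∧ s' ∈ K := by
        by_contra hcon
        have hKB : K ≤ (bn (F := F) hC).B := by
          rw [BN.Parabolic.le_parabolic_mem hBK]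
          exact sup_le le_rfl ((Subgroup.closure_le _).2 fun s hs => absurd ⟨s, hs⟩ hcon)
        obtain ⟨y, hyj⟩ : ∃ y, θ y = gn hC (D.simple j) 1 := ⟨_, θ.apply_symm_apply _⟩
        have hy : y ∈ K := by
          rw [hK, Subgroup.mem_comap]
          exact BN.Parabolic.mem_parabolic_of_mem hyj
        have h1 : θ y ∈ (bn (F := F) hC).B := hB ▸ ⟨y, hKB hy, rfl⟩
        have h2 := BN.Parabolic.mem_iff_mem_parabolic (P := bn (F := F) hC) (Set.empty_subset _)
          (⟨j, hj, by rw [hyj, hjs]⟩ : θ y ∈ (bn (F := F) hC).S)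
        exact (Set.notMem_empty _) (h2.1 (BN.Parabolic.B_le_parabolic _ h1))
      obtain rfl : s' = gn hC (D.simple k) 1 := Subtype.ext (hks.trans (coe_gn hC _ _).symm)
      obtain rfl := eq_of_gn_mem hC i.2 hk (hKi hs'K)
      have hPK : Pp hC F i ≤ K :=
        sup_le hBK ((Subgroup.closure_le _).2 (Set.singleton_subset_iff.2 hs'K))
      rw [hM]
      exact Subgroup.map_le_iff_le_comap.2 (hK ▸ hPK)
  choose π hπ using key
  have hmap : ∀ i : Fin D.rank, (Xg hC F (D.neg (D.simple i))).map θ.toMonoidHom =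
      Xg hC F (D.neg (D.simple (π i))) := fun i => by
    rw [← Pp_inf_V hC i.2, ← Pp_inf_V hC (π i).2, Subgroup.map_inf _ _ _ θ.injective, hπ, hV]
  have hinj : Function.Injective π := fun a b h => by
    have h1 : (Xg hC F (D.neg (D.simple a))).map θ.toMonoidHom =
        (Xg hC F (D.neg (D.simple b))).map θ.toMonoidHom := by rw [hmap, hmap, h]
    have h2 := Xg_inj hC (hC.neg_lt (hC.simple_lt a.2)) (hC.neg_lt (hC.simple_lt b.2))
      (Subgroup.map_injective θ.injective h1)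
    exact Fin.ext (hC.simple_inj a.2 b.2 (by
      rw [← hC.neg_neg (hC.simple_lt a.2), h2, hC.neg_neg (hC.simple_lt b.2)]))
  exact ⟨Equiv.ofBijective π (Finite.injective_iff_bijective.1 hinj), hmap⟩

include hN in
/-- The longest element sends the negative of a fundamental root to a fundamental root. -/
theorem exists_longest_simple {L : List ℕ} (hL : IsLongest D T L) {j : ℕ} (hj : j < D.rank) :
    ∃ i < D.rank, wL D L (D.simple i) = D.neg (D.simple j) := by
  have hLr : ∀ i ∈ L.reverse, i < D.rank := fun i hi => hL.1 i (List.mem_reverse.1 hi)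
  have hnj := hC.neg_lt (hC.simple_lt hj)
  obtain ⟨r, hr⟩ : ∃ r, r = wL D L.reverse (D.neg (D.simple j)) := ⟨_, rfl⟩
  have hrl : r < D.nroots := hr ▸ wL_lt hC hLr hnj
  have hwr : wL D L r = D.neg (D.simple j) := hr ▸ wL_neg_simple hC hL.1 hnj
  have hrp : 0 < T.phi r := by
    refine (longest_sign hC hL hrl).1.2 ?_
    rw [hwr, hC.phi_neg (hC.simple_lt hj)]
    have := hC.phi_simple hj
    omega
  obtain ⟨i, hi, h | ⟨hA, hne, hp', -⟩⟩ := descend hC hrl hrp
  · exact ⟨i, hi, h ▸ hwr⟩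
  exfalso
  obtain ⟨a, ha⟩ := exists_coefJ hC hN ({j} : Set ℕ)
  have hadd : ∀ L : List ℕ, (∀ i ∈ L, i < D.rank) → ∀ f, Additive' D f →
      Additive' D (fun r => f (wL D L r)) := by
    intro L
    induction L with
    | nil => exact fun _ f hf => hf
    | cons k L ih =>
      intro hL f hf
      exact ih (fun m hm => hL m (List.mem_cons_of_mem k hm)) _
        (additive_comp hC hf (hL k List.mem_cons_self))
  have hg := hadd L hL.1 (fun r => lin D a r) (fun k hk s hs => lin_reflect hC a hk hs) i hi r hrl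
  dsimp only at hg
  have hr' := hC.reflect_lt hi hrl
  have hsi := hC.simple_lt hi
  have hnn : ∀ s < D.nroots, 0 < T.phi s → lin D a (wL D L s) ≤ 0 := fun s hs hp => by
    have h1 := wL_lt hC hL.1 hs
    have h2 := (ha _ (hC.neg_lt h1)).2 (by rw [hC.phi_neg h1]; have := hL.2 s hs hp; omega)
    rw [lin_neg hC a h1] at h2
    omega
  have h0 : lin D a (wL D L r) = 0 := by
    rw [hwr]
    exact (ha _ hnj).1.2 (Parabolic.simple_inRootSub hC hj (Set.mem_singleton j)).2
  rw [h0] at hg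
  have h1 := hnn _ hr' hp'
  have h2 := hnn _ hsi (hC.phi_simple hi)
  have h3 : D.cartan i r * lin D a (wL D L (D.simple i)) ≤ 0 :=
    mul_nonpos_of_nonneg_of_nonpos hA.le h2
  have h4 : lin D a (wL D L (D.simple i)) = 0 := by
    have : D.cartan i r * lin D a (wL D L (D.simple i)) = 0 := by omega
    exact (mul_eq_zero.1 this).resolve_left hA.ne'
  have h5 : lin D a (wL D L (D.reflectRoot i r)) = 0 := by rw [h4, mul_zero] at hg; omega
  have hsupp : ∀ s, D.InRootSub ({j} : Set ℕ) s → 0 < T.phi s → s = D.simple j := by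
    intro s
    induction s using Nat.strong_induction_on with
    | _ s ih =>
      intro hs hp
      obtain ⟨k, hk, hkj, h | ⟨hlt, hp', hJ⟩⟩ := Parabolic.descend_inRootSub hC hs hp
      · rw [Set.mem_singleton_iff] at hkj
        exact hkj ▸ h
      · rw [Set.mem_singleton_iff] at hkj
        subst hkj
        have h7 := ih _ hlt hJ hp'
        have h8 := hC.reflect_reflect hk hs.1
        rw [h7, hC.reflect_simple hk] at h8
        rw [← h8, hC.phi_neg (hC.simple_lt hk)] at hp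
        have := hC.phi_simple hk
        omega
  have hkey : ∀ s < D.nroots, 0 < T.phi s → lin D a (wL D L s) = 0 →
      wL D L s = D.neg (D.simple j) := fun s hs hp h => by
    have h1 := wL_lt hC hL.1 hs
    have h2 := (ha _ (hC.neg_lt h1)).1.1 (by rw [lin_neg hC a h1, h, neg_zero])
    have h3 := hsupp _ h2 (by rw [hC.phi_neg h1]; have := hL.2 s hs hp; omega)
    rw [← h3, hC.neg_neg h1]
  have h6 := wL_injective hC hL.1 hr' hsi
    ((hkey _ hr' hp' h5).trans (hkey _ hsi (hC.phi_simple hi) h4).symm)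
  have h7 := hC.reflect_reflect hi hrl
  rw [h6, hC.reflect_simple hi] at h7
  rw [← h7, hC.phi_neg hsi] at hrp
  have := hC.phi_simple hi
  omega

theorem map_Xg_conj {L : List ℕ} (hL : ∀ i ∈ L, i < D.rank) {r : ℕ} (hr : r < D.nroots) :
    (Xg hC F r).map (MulAut.conj (gnL hC F L)).toMonoidHom = Xg hC F (wL D L r) := by
  obtain ⟨η, hη, e⟩ := nL_conj_x (F := F) hC hL hr
  ext g
  constructor
  · rintro ⟨_, ⟨t, rfl⟩, rfl⟩
    exact ⟨η * t, Subtype.ext (by simp [coe_gnL, e])⟩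
  · rintro ⟨t, rfl⟩
    exact ⟨gx hC r (η⁻¹ * t), ⟨_, rfl⟩, Subtype.ext (by simp [coe_gnL, e, hη])⟩

theorem commute_pos_neg {i k : ℕ} (hi : i < D.rank) (hk : k < D.rank) (hik : i ≠ k)
    {N : List (List ℤ)} (hN : coefChk T N = true) (t u : F) :
    Commute (gx hC (D.simple i) t) (gx hC (D.neg (D.simple k)) u) := by
  have hsi := hC.simple_lt hi
  have hsk := hC.simple_lt hk
  have hnil : D.commTerms (D.simple i) (D.neg (D.simple k)) = [] := by
    refine List.eq_nil_iff_forall_not_mem.2 fun c hc => ?_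
    have hcl := commTerms_lt hC hsi (hC.neg_lt hsk) c hc
    have hsign : ∀ (m n : ℕ), m < D.rank → n < D.rank → m ≠ n → ∃ a : ℕ → ℤ,
        (∀ r < D.nroots, 0 < T.phi r → 0 ≤ lin D a r) ∧ 0 < lin D a (D.simple m) ∧
          lin D a (D.simple n) = 0 := by
      intro m n hm hn hmn
      obtain ⟨a, ha⟩ := exists_coefJ hC hN ({n} : Set ℕ)
      refine ⟨a, fun r hr => (ha r hr).2, ?_,
        (ha _ (hC.simple_lt hn)).1.2 (Parabolic.simple_inRootSub hC hn (Set.mem_singleton n)).1⟩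
      refine lt_of_le_of_ne ((ha _ (hC.simple_lt hm)).2 (hC.phi_simple hm)) fun h => ?_
      have := ((ha _ (hC.simple_lt hm)).1.1 h.symm).2 m hm (by simpa using hmn)
      rw [show (D.coroot.getD (D.simple m) #[]).getD m 0 = cor D (D.simple m) m from rfl,
        hC.cor_simple hm hm, if_pos rfl] at this
      omega
    obtain ⟨a, hpos, ha1, ha0⟩ := hsign i k hi hk hik
    obtain ⟨b, bpos, hb1, hb0⟩ := hsign k i hk hi (Ne.symm hik)
    obtain ⟨x, y, hx, hy, ha2⟩ := lin_commTerms hC a hsi (hC.neg_lt hsk) c hc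
    obtain ⟨x', y', hx', hy', hb2⟩ := lin_commTerms hC b hsi (hC.neg_lt hsk) c hc
    rw [lin_neg hC a hsk, ha0, neg_zero, mul_zero, add_zero] at ha2
    rw [lin_neg hC b hsk, hb0, mul_zero, zero_add, mul_neg] at hb2
    have ha3 : 0 < lin D a c.1 := ha2 ▸ mul_pos (by exact_mod_cast hx) ha1
    have hb3 : lin D b c.1 < 0 := by
      rw [hb2]
      exact neg_neg_of_pos (mul_pos (by exact_mod_cast hy') hb1)
    rcases lt_or_gt_of_ne (hC.phi_ne_zero hcl) with h | h
    · have := hpos _ (hC.neg_lt hcl) (by rw [hC.phi_neg hcl]; omega)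
      rw [lin_neg hC a hcl] at this
      omega
    · have := bpos _ hcl h
      omega
  have hne : D.neg (D.simple k) ≠ D.simple i := fun e => by
    have := hC.phi_simple hk
    have h2 := hC.phi_simple hi
    rw [← e, hC.phi_neg hsk] at h2
    omega
  have hne' : D.neg (D.simple k) ≠ D.neg (D.simple i) := fun e =>
    hik (hC.simple_inj hi hk (by rw [← hC.neg_neg hsi, ← e, hC.neg_neg hsk]))
  refine Subtype.ext ?_
  simp only [Subgroup.coe_mul, coe_gx]
  rw [xg_comm hC hsi (hC.neg_lt hsk) hne hne' t u, ChevalleyDatum.commWord, hnil]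
  simp

theorem not_commute_pos_neg {i : ℕ} (hi : i < D.rank) :
    ¬ ∀ t u : F, Commute (gx hC (D.simple i) t) (gx hC (D.neg (D.simple i)) u) := by
  intro h
  have hsi := hC.simple_lt hi
  have e := (SL2.rank1 (F := F) hC hsi).w_conj 1
  have h1 : gn hC (D.simple i) (1 : F) * gx hC (D.simple i) 1 * (gn hC (D.simple i) (1 : F))⁻¹ =
      gx hC (D.simple i) 1 := by
    have hc : Commute (gn hC (D.simple i) (1 : F)) (gx hC (D.simple i) 1) := by
      have hxx : Commute (gx hC (D.simple i) (1 : F)) (gx hC (D.simple i) 1) := Commute.refl _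
      rw [gn]
      exact (hxx.mul_left (h 1 _).symm).mul_left hxx
    rw [hc.eq, mul_inv_cancel_right]
  have h2 : gx hC (D.neg (D.simple i)) (-1) = gx hC (D.simple i) (1 : F) := by
    refine (Subtype.ext ?_ : _ = _).trans h1
    simp only [Subgroup.coe_mul, Subgroup.coe_inv, coe_gx, coe_gn]
    exact e.symm
  have h3 := U_inf_V_g hC (h2 ▸ gx_pos_mem hC hi (1 : F)) (gx_neg_mem hC hi (-1))
  rw [← gx_zero hC (D.neg (D.simple i))] at h3
  exact neg_ne_zero.2 one_ne_zero (gx_injective hC (hC.neg_lt hsi) h3)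

include hN in
/-- The root subgroups are permuted through one permutation of the nodes. -/
theorem exists_perm [Finite F] {θ : D.group F ≃* D.group F}
    (hU : (Ug D F).map θ.toMonoidHom = Ug D F) (hV : (Vg D F).map θ.toMonoidHom = Vg D F) :
    ∃ π : Equiv.Perm (Fin D.rank), ∀ i : Fin D.rank,
      (Xg hC F (D.simple i)).map θ.toMonoidHom = Xg hC F (D.simple (π i)) ∧
      (Xg hC F (D.neg (D.simple i))).map θ.toMonoidHom = Xg hC F (D.neg (D.simple (π i))) := by
  classical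
  obtain ⟨π, hπ⟩ := exists_neg_perm hC hN hU hV
  obtain ⟨L, hLL, hneg⟩ := exists_longest hC
  obtain ⟨hn1, hn2⟩ := longest_map_g (F := F) hC ⟨hLL, hneg⟩
  obtain ⟨n, hn⟩ : ∃ n, n = gnL hC F L := ⟨_, rfl⟩
  rw [← hn] at hn1 hn2
  let ψ : D.group F ≃* D.group F := ((MulAut.conj n⁻¹).trans θ).trans (MulAut.conj n)
  have hψ : ∀ A : Subgroup (D.group F), A.map ψ.toMonoidHom =
      ((A.map (MulAut.conj n⁻¹).toMonoidHom).map θ.toMonoidHom).map (MulAut.conj n).toMonoidHom :=
    fun A => by rw [Subgroup.map_map, Subgroup.map_map]; rfl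
  obtain ⟨ρ, hρ⟩ := exists_neg_perm (θ := ψ) hC hN
    (by rw [hψ, conj_map_inv hn2, hV, hn2]) (by rw [hψ, conj_map_inv hn1, hU, hn1])
  choose ι hι hιw using fun j : Fin D.rank => exists_longest_simple hC hN ⟨hLL, hneg⟩ j.2
  have hιX : ∀ j : Fin D.rank, (Xg hC F (D.simple (ι j))).map (MulAut.conj n).toMonoidHom =
      Xg hC F (D.neg (D.simple j)) := fun j => by
    rw [hn, map_Xg_conj hC hLL (hC.simple_lt (hι j)), hιw]
  have hιinj : Function.Injective fun j : Fin D.rank => (⟨ι j, hι j⟩ : Fin D.rank) := fun a b h => by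
    have h1 := (hιw a).symm.trans ((congrArg (fun x : Fin D.rank => wL D L (D.simple x)) h).trans (hιw b))
    exact Fin.ext (hC.simple_inj a.2 b.2 (by
      rw [← hC.neg_neg (hC.simple_lt a.2), h1, hC.neg_neg (hC.simple_lt b.2)]))
  have hιsurj := (Finite.injective_iff_surjective.1 hιinj)
  refine ⟨π, fun i => ⟨?_, hπ i⟩⟩
  obtain ⟨j, hj⟩ := hιsurj i
  have e1 : (Xg hC F (D.simple i)).map θ.toMonoidHom = Xg hC F (D.simple (ι (ρ j))) := by
    refine Subgroup.map_injective (f := (MulAut.conj n).toMonoidHom) (MulAut.conj n).injective ?_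
    show ((Xg hC F (D.simple i)).map θ.toMonoidHom).map (MulAut.conj n).toMonoidHom =
      (Xg hC F (D.simple (ι (ρ j)))).map (MulAut.conj n).toMonoidHom
    rw [hιX, ← hρ, hψ, ← hιX, conj_map_trans, inv_mul_cancel, conj_map_one, ← hj]
  suffices hk : ι (ρ j) = (π i : ℕ) by rw [e1, hk]
  by_contra hne
  refine not_commute_pos_neg (F := F) hC i.2 fun t u => ?_
  obtain ⟨t', ht'⟩ : θ (gx hC (D.simple i) t) ∈ Xg hC F (D.simple (ι (ρ j))) :=
    e1 ▸ ⟨_, ⟨t, rfl⟩, rfl⟩
  obtain ⟨u', hu'⟩ : θ (gx hC (D.neg (D.simple i)) u) ∈ Xg hC F (D.neg (D.simple (π i))) :=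
    hπ i ▸ ⟨_, ⟨u, rfl⟩, rfl⟩
  have h := commute_pos_neg hC (hι (ρ j)) (π i).2 hne hN t' u'
  rw [ht', hu'] at h
  have h' := h.map θ.symm.toMonoidHom
  simpa using h'

end Cfsg.Agent.Chevalley.AutThm
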