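import Cfsg.Agent.Lib.Chevalley.Aut.Frame
import Cfsg.Agent.Lib.Chevalley.GraphAut
import Cfsg.Prelude.Def_ChevAutomorphisms

/-!
The adjacency symmetries of a diagram, graph automorphisms from tables, and witnesses against the
existence of a graph automorphism.
-/

set_option autoImplicit false

open scoped Matrix Pointwise

namespace Cfsg.Agent.Chevalley.AutThm

open Cfsg.Lie Cfsg.Agent.Chevalley.Eval Cfsg.Agent.Chevalley.Table Cfsg.Agent.Chevalley.Check
  Cfsg.Agent.Chevalley.Cert Cfsg.Agent.Chevalley.Relations Cfsg.Agent.Chevalley.Group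
  Cfsg.Agent.Chevalley.Borel

variable {D : ChevalleyDatum} {T : Tab}

/-- A permutation of the nodes, on natural numbers. -/
def piN (π : Equiv.Perm (Fin D.rank)) (i : ℕ) : ℕ := if h : i < D.rank then (π ⟨i, h⟩ : ℕ) else 0

theorem piN_eq (π : Equiv.Perm (Fin D.rank)) (i : Fin D.rank) : piN π i = π i := by
  rw [piN, dif_pos i.2]

theorem piN_lt (π : Equiv.Perm (Fin D.rank)) {i : ℕ} (hi : i < D.rank) : piN π i < D.rank := by
  rw [piN, dif_pos hi]; exact Fin.is_lt _

/-- The permutation as a list. -/
def piL (π : Equiv.Perm (Fin D.rank)) : List ℕ := (List.range D.rank).map (piN π)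

/-- The permutation preserves adjacency. -/
def AdjPres (π : Equiv.Perm (Fin D.rank)) : Prop :=
  ∀ i j : Fin D.rank, i ≠ j →
    (D.cartan (π i) (D.simple (π j)) = 0 ↔ D.cartan i (D.simple j) = 0)

/-- Two nodes are joined. -/
noncomputable def adjT (T : Tab) (i j : ℕ) : Bool := !isZ (T.A i (T.simple j))

/-- Extend a partial symmetry by one node. -/
noncomputable def extend (T : Tab) (k : ℕ) (P : List ℕ) : List (List ℕ) :=
  ((List.range T.l).filter fun v => !P.contains v && (List.range k).all fun i =>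
    adjT T i k == adjT T (P.getD i 0) v && adjT T k i == adjT T v (P.getD i 0)).map fun v => P ++ [v]

/-- The partial symmetries on the first nodes. -/
noncomputable def symBuild (T : Tab) : ℕ → List (List ℕ)
  | 0 => [[]]
  | k + 1 => (symBuild T k).flatMap (extend T k)

/-- A permutation from a list. -/
def ofList (L : List ℕ) (π : Equiv.Perm (Fin D.rank)) : Prop := ∀ i : Fin D.rank, (π i : ℕ) = L.getD i 0

theorem adj_iff (hC : Certified D T) {i j : ℕ} (hi : i < D.rank) (hj : j < D.rank) :
    adjT T i j = true ↔ D.cartan i (D.simple j) ≠ 0 := by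
  rw [adjT, Bool.not_eq_true', hC.simple_eq hj, hC.linked.A_eq i hi _ (hC.simple_lt hj)]
  constructor
  · intro h e
    rw [(isZ_iff _).2 e] at h
    exact Bool.noConfusion h
  · intro h
    by_contra hb
    exact h ((isZ_iff _).1 (Bool.not_eq_false _ ▸ hb))

theorem mem_symBuild (hC : Certified D T) {π : Equiv.Perm (Fin D.rank)} (hπ : AdjPres π) :
    ∀ k ≤ D.rank, (List.range k).map (piN π) ∈ symBuild T k := by
  intro k
  induction k with
  | zero => intro _; simp [symBuild]
  | succ k ih =>
    intro hk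
    rw [symBuild, List.mem_flatMap]
    refine ⟨_, ih (by omega), ?_⟩
    rw [extend, List.mem_map]
    refine ⟨piN π k, List.mem_filter.2 ⟨List.mem_range.2 (by rw [hC.l_eq]; exact piN_lt π (by omega)), ?_⟩,
      by rw [List.range_succ, List.map_append]; rfl⟩
    rw [Bool.and_eq_true, Bool.not_eq_true', List.all_eq_true]
    have hne : ∀ i, ∀ hi : i < k, (⟨i, by omega⟩ : Fin D.rank) ≠ ⟨k, by omega⟩ := fun i hi e => by
      simp only [Fin.mk.injEq] at e; omega
    refine ⟨?_, fun i hi => ?_⟩
    · rw [Bool.eq_false_iff]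
      intro hc
      simp only [List.contains_iff_mem, List.mem_map, List.mem_range] at hc
      obtain ⟨i, hi, e⟩ := hc
      rw [piN, dif_pos (show i < D.rank by omega), piN, dif_pos (show k < D.rank by omega)] at e
      exact hne i hi (π.injective (Fin.ext e))
    · rw [List.mem_range] at hi
      have hgd : ((List.range k).map (piN π)).getD i 0 = piN π i := by
        rw [List.getD_eq_getElem _ _ (by simpa using hi)]
        simp
      have key : ∀ a b : Fin D.rank, a ≠ b → adjT T a b = adjT T (piN π a) (piN π b) := fun a b hab => by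
        rw [piN_eq, piN_eq, Bool.eq_iff_iff, adj_iff hC a.2 b.2, adj_iff hC (π a).2 (π b).2]
        exact (not_congr (hπ a b hab)).symm
      rw [hgd, Bool.and_eq_true, beq_iff_eq, beq_iff_eq]
      exact ⟨key ⟨i, by omega⟩ ⟨k, by omega⟩ (hne i hi),
        key ⟨k, by omega⟩ ⟨i, by omega⟩ (Ne.symm (hne i hi))⟩

/-- Every adjacency symmetry is one of the listed permutations. -/
theorem piL_mem (hC : Certified D T) {S : List (List ℕ)} (hS : symBuild T T.l = S)
    {π : Equiv.Perm (Fin D.rank)} (hπ : AdjPres π) : piL π ∈ S := by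
  subst hS
  rw [hC.l_eq]
  exact mem_symBuild hC hπ _ le_rfl

theorem piL_getD (π : Equiv.Perm (Fin D.rank)) (i : Fin D.rank) : (piL π).getD i 0 = π i := by
  rw [List.getD_eq_getElem _ _ (by simp [piL])]
  simp [piL, piN_eq]

/-- All listed permutations preserve the bonds. -/
def bondsChk (D : ChevalleyDatum) (S : List (List ℕ)) : Bool :=
  S.all fun P => (List.range D.rank).all fun i => (List.range D.rank).all fun j =>
    i == j || D.bonds (P.getD i 0) (P.getD j 0) == D.bonds i j

theorem isDiagramSymmetry_of {S : List (List ℕ)} (hB : bondsChk D S = true)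
    {π : Equiv.Perm (Fin D.rank)} (hπ : piL π ∈ S) : D.IsDiagramSymmetry π := by
  intro i j hij
  simp only [bondsChk, List.all_eq_true, List.mem_range, Bool.or_eq_true, beq_iff_eq] at hB
  have h := (hB _ hπ i i.2 j j.2).resolve_left fun e => hij (Fin.ext e)
  rwa [piL_getD, piL_getD] at h

variable {F : Type*} [Field F]

/-- `g` acts on the fundamental root elements as a graph automorphism of `π` does. -/
def IsGraphOf (hC : Certified D T) (π : Equiv.Perm (Fin D.rank)) (g : D.group F ≃* D.group F) : Prop :=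
  ∀ (i : Fin D.rank) (t : F),
    g (gx hC (D.simple i) t) = gx hC (D.simple (π i)) (t ^ D.graphExp (ringChar F) i (π i)) ∧
    g (gx hC (D.neg (D.simple i)) t) =
      gx hC (D.neg (D.simple (π i))) (t ^ D.graphExp (ringChar F) i (π i))

theorem IsGraphOf.isGraphAut {hC : Certified D T} {π : Equiv.Perm (Fin D.rank)}
    {g : D.group F ≃* D.group F} (hg : IsGraphOf hC π g) (hπ : D.IsDiagramSymmetry π) :
    D.IsGraphAut g := by
  refine ⟨π, hπ, fun z i t => ⟨fun hz => ?_, fun hz => ?_⟩⟩
  · rw [show z = gx hC (D.simple i) t from Subtype.ext (Units.ext hz), (hg i t).1]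
    rfl
  · rw [show z = gx hC (D.neg (D.simple i)) t from Subtype.ext (Units.ext hz), (hg i t).2]
    rfl

theorem graphExp_self (c i : ℕ) : D.graphExp c i i = 1 := by
  rw [ChevalleyDatum.graphExp]
  cases D.isLong (D.simple i) <;> rfl

/-- The identity permutation. -/
theorem graph_refl (hC : Certified D T) {P : List ℕ} (hP : P = List.range D.rank)
    {π : Equiv.Perm (Fin D.rank)} (hπ : piL π = P) :
    ∃ g : D.group F ≃* D.group F, IsGraphOf hC π g := by
  refine ⟨MulEquiv.refl _, fun i t => ?_⟩
  have e : π i = i := Fin.ext (by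
    rw [← piL_getD π i, hπ, hP, List.getD_eq_getElem _ _ (by simp)]; simp)
  rw [e, graphExp_self, pow_one]
  exact ⟨rfl, rfl⟩

/-- The exponents of a table agree with those of the definition. -/
def expChk (D : ChevalleyDatum) (p : ℕ) (L : List (ℕ × ℕ)) : Bool :=
  (List.range D.rank).all fun i =>
    D.graphExp p i (L.getD i (0, 1)).1 == (L.getD i (0, 1)).2

/-- A graph automorphism from a pair of tables. -/
theorem graph_of_tab (hC : Certified D T) (hT : StKernel.HasCerts T) {p : ℕ} {M M' : GraphAut.GTab}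
    {L L' : List (ℕ × ℕ)} (hp : GraphAut.CharOK F p) (hchar : ringChar F = p ∨ ∀ c, expChk D c L = true)
    (h : GraphAut.relChk T p M = true) (honto : GraphAut.ontoChk T M = true)
    (hs : GraphAut.simpleChk T M L = true) (h' : GraphAut.relChk T p M' = true)
    (honto' : GraphAut.ontoChk T M' = true) (hs' : GraphAut.simpleChk T M' L' = true)
    (he : ringChar F = p → expChk D p L = true)
    {q : ℕ} (hq : (Nat.beq q 1 || (Nat.beq q p && !Nat.beq p 0)) = true)
    (hLL : ∀ i < D.rank, (L'.getD (L.getD i (0, 1)).1 (0, 1)).1 = i ∧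
      (L.getD i (0, 1)).2 * (L'.getD (L.getD i (0, 1)).1 (0, 1)).2 = q)
    {P : List ℕ} (hP : P = L.map Prod.fst) {π : Equiv.Perm (Fin D.rank)} (hπ : piL π = P) :
    ∃ g : D.group F ≃* D.group F, IsGraphOf hC π g := by
  obtain ⟨α, hα⟩ := GraphAut.exists_aut hC hT hp h honto hs h' honto' hs' hq hLL
  refine ⟨α, fun i t => ?_⟩
  have hlen : L.length = D.rank := by
    have := congrArg List.length (hπ.trans hP)
    simpa [piL] using this.symm
  have ej : (L.getD i (0, 1)).1 = π i := by
    rw [← piL_getD π i, hπ, hP, List.getD_eq_getElem _ _ (by rw [hlen]; exact i.2),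
      List.getD_eq_getElem _ _ (by rw [List.length_map, hlen]; exact i.2)]
    simp
  have ee : D.graphExp (ringChar F) i (π i) = (L.getD i (0, 1)).2 := by
    have hex : expChk D (ringChar F) L = true := by
      rcases hchar with hc | hc
      · rw [hc]; exact he hc
      · exact hc _
    simp only [expChk, List.all_eq_true, List.mem_range, beq_iff_eq] at hex
    rw [← hex i i.2, ej]
  rw [ee]
  refine ⟨Subtype.ext (Units.ext ?_), Subtype.ext (Units.ext ?_)⟩
  · have := (hα (gx hC (D.simple i) t) i t i.2).1 rfl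
    rwa [ej] at this
  · have := (hα (gx hC (D.neg (D.simple i)) t) i t i.2).2 rfl
    rwa [ej] at this

/-- A witness that no automorphism realises `π`: two root elements that commute, whose images do not. -/
def Excl (D : ChevalleyDatum) (F : Type*) [Field F] (π : Equiv.Perm (Fin D.rank)) : Prop :=
  ∃ (i : Fin D.rank) (L : List ℕ), (∀ j ∈ L, j < D.rank) ∧
    wL D L (D.simple i) ≠ D.simple i ∧ wL D L (D.simple i) ≠ D.neg (D.simple i) ∧
    wL D (L.map (piN π)) (D.simple (π i)) ≠ D.simple (π i) ∧
    wL D (L.map (piN π)) (D.simple (π i)) ≠ D.neg (D.simple (π i)) ∧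
    D.commTerms (D.simple i) (wL D L (D.simple i)) = [] ∧
    ∃ c : ℕ × ℤ × ℕ × ℕ, D.commTerms (D.simple (π i)) (wL D (L.map (piN π)) (D.simple (π i))) = [c] ∧
      (c.2.1 : F) ≠ 0

/-- The decidable part of a witness. -/
def exclChk (D : ChevalleyDatum) (P L : List ℕ) (i : ℕ) (z : ℤ) : Bool :=
  decide (i < D.rank) && (L.all (fun j => decide (j < D.rank)) &&
    (let r := wL D L (D.simple i)
     let i' := P.getD i 0
     let r' := wL D (L.map fun j => P.getD j 0) (D.simple i')
     !(r == D.simple i) && (!(r == D.neg (D.simple i)) && (!(r' == D.simple i') &&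
       (!(r' == D.neg (D.simple i')) && ((D.commTerms (D.simple i) r).isEmpty &&
         ((D.commTerms (D.simple i') r').map fun c => c.2.1) == [z]))))))

theorem excl_of_chk {P L : List ℕ} {i : ℕ} {z : ℤ} (h : exclChk D P L i z = true)
    {π : Equiv.Perm (Fin D.rank)} (hπ : piL π = P) (hz : (z : F) ≠ 0) : Excl D F π := by
  simp only [exclChk, Bool.and_eq_true, decide_eq_true_eq, List.all_eq_true, Bool.not_eq_true',
    beq_eq_false_iff_ne, ne_eq, List.isEmpty_iff, beq_iff_eq] at h
  obtain ⟨hi, hL, h1, h2, h3, h4, h5, h6⟩ := h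
  have e : L.map (piN π) = L.map fun j => P.getD j 0 := List.map_congr_left fun j hj => by
    rw [← hπ]
    exact (piN_eq π ⟨j, hL j hj⟩).trans (piL_getD π ⟨j, hL j hj⟩).symm
  have e' : ((π ⟨i, hi⟩ : Fin D.rank) : ℕ) = P.getD i 0 := by rw [← hπ]; exact (piL_getD π ⟨i, hi⟩).symm
  refine ⟨⟨i, hi⟩, L, hL, h1, h2, ?_, ?_, h5, ?_⟩
  · rw [e, e']; exact h3
  · rw [e, e']; exact h4
  · rw [e, e']
    obtain ⟨c, hc, hcz⟩ := List.map_eq_singleton_iff.1 h6
    exact ⟨c, hc, by rw [hcz]; exact hz⟩

end Cfsg.Agent.Chevalley.AutThm
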